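import Mathlib

/-!
# The conormal sequence of a local ring over a field with formally smooth residue field
(helper19, for S5026)
-/

namespace Groth.Agent.Helper19.Jac

open scoped TensorProduct
open IsLocalRing

universe u

section Seq

variable (k : Type u) [Field k] (R : Type u) [CommRing R] [IsLocalRing R] [Algebra k R]

theorem kerCotangentToTensor_injective_of_formallySmooth
    [Algebra.FormallySmooth k (ResidueField R)] :
    Function.Injective (KaehlerDifferential.kerCotangentToTensor k R (ResidueField R)) := by
  have hsurj : Function.Surjective (algebraMap R (ResidueField R)) := residue_surjective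
  have hφs : Function.Surjective (IsScalarTower.toAlgHom k R (ResidueField R)).kerSquareLift := by
    intro x
    obtain ⟨y, rfl⟩ := hsurj x
    exact ⟨Ideal.Quotient.mk _ y, AlgHom.kerSquareLift_mk _ y⟩
  have hφn : IsNilpotent (RingHom.ker
      ((IsScalarTower.toAlgHom k R (ResidueField R)).kerSquareLift :
        (R ⧸ RingHom.ker (IsScalarTower.toAlgHom k R (ResidueField R)).toRingHom ^ 2) →+*
          ResidueField R)) := by
    refine ⟨2, ?_⟩
    have := AlgHom.ker_kerSquareLift (IsScalarTower.toAlgHom k R (ResidueField R))
    change RingHom.ker (IsScalarTower.toAlgHom k R (ResidueField R)).kerSquareLift.toRingHom ^ 2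
      = 0
    rw [this, Ideal.cotangentIdeal_square]
    rfl
  obtain ⟨g, hg⟩ : ∃ g, (IsScalarTower.toAlgHom k R (ResidueField R)).kerSquareLift.comp g =
      AlgHom.id k (ResidueField R) :=
    ⟨Algebra.FormallySmooth.liftOfSurjective (AlgHom.id k (ResidueField R)) _ hφs hφn,
      Algebra.FormallySmooth.comp_liftOfSurjective _ _ _ _⟩
  obtain ⟨l, hl⟩ := (retractionKerCotangentToTensorEquivSection (R := k) (P := R)
    (S := ResidueField R) hsurj).symm ⟨g, hg⟩
  exact Function.LeftInverse.injective (g := l) (fun x => LinearMap.congr_fun hl x)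

/-- The `κ`-linear map `m/m² → κ ⊗ Ω_{R/k}`, `[y] ↦ 1 ⊗ dy`. -/
noncomputable def cotMap : CotangentSpace R →ₗ[ResidueField R] ResidueField R ⊗[R] Ω[R⁄k] :=
  ((KaehlerDifferential.kerCotangentToTensor k R (ResidueField R)) ∘ₗ
    (Ideal.Cotangent.equivOfEq (maximalIdeal R) (RingHom.ker (algebraMap R (ResidueField R)))
      (ker_residue (R := R)).symm).toLinearMap).extendScalarsOfSurjective
        (residue_surjective (R := R))

theorem cotMap_toCotangent (y : maximalIdeal R) :
    cotMap k R ((maximalIdeal R).toCotangent y) = 1 ⊗ₜ KaehlerDifferential.D k R (y : R) := by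
  rfl

theorem cotMap_injective [Algebra.FormallySmooth k (ResidueField R)] :
    Function.Injective (cotMap k R) := by
  have h1 := kerCotangentToTensor_injective_of_formallySmooth k R
  have h2 := (Ideal.Cotangent.equivOfEq (maximalIdeal R)
    (RingHom.ker (algebraMap R (ResidueField R))) (ker_residue (R := R)).symm).injective
  exact h1.comp h2

theorem exact_cotMap_mapBaseChange :
    Function.Exact (cotMap k R) (KaehlerDifferential.mapBaseChange k R (ResidueField R)) := by
  have hex := KaehlerDifferential.exact_kerCotangentToTensor_mapBaseChange k R (ResidueField R)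
    (residue_surjective (R := R))
  intro y
  rw [hex y]
  constructor
  · rintro ⟨z, rfl⟩
    refine ⟨(Ideal.Cotangent.equivOfEq (maximalIdeal R)
      (RingHom.ker (algebraMap R (ResidueField R))) (ker_residue (R := R)).symm).symm z, ?_⟩
    change KaehlerDifferential.kerCotangentToTensor k R (ResidueField R)
      ((Ideal.Cotangent.equivOfEq _ _ _) ((Ideal.Cotangent.equivOfEq _ _ _).symm z)) = _
    rw [LinearEquiv.apply_symm_apply]
  · rintro ⟨z, rfl⟩
    exact ⟨_, rfl⟩

theorem mapBaseChange_one_tmul_D (y : R) :
    KaehlerDifferential.mapBaseChange k R (ResidueField R) (1 ⊗ₜ KaehlerDifferential.D k R y) =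
      KaehlerDifferential.D k (ResidueField R) (residue R y) := by
  rw [KaehlerDifferential.mapBaseChange_tmul, one_smul, KaehlerDifferential.map_D]
  rfl

theorem finrank_tensor_kaehler_eq_add [IsNoetherianRing R]
    [Algebra.FormallySmooth k (ResidueField R)]
    [Module.Finite (ResidueField R) (ResidueField R ⊗[R] Ω[R⁄k])] :
    Module.finrank (ResidueField R) (ResidueField R ⊗[R] Ω[R⁄k]) =
      Module.finrank (ResidueField R) (CotangentSpace R) +
        Module.finrank (ResidueField R) (Ω[ResidueField R⁄k]) := by
  have h1 := LinearMap.finrank_range_add_finrank_ker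
    (KaehlerDifferential.mapBaseChange k R (ResidueField R))
  have hsurj : Function.Surjective (KaehlerDifferential.mapBaseChange k R (ResidueField R)) :=
    KaehlerDifferential.mapBaseChange_surjective k R (ResidueField R)
      (residue_surjective (R := R))
  rw [LinearMap.range_eq_top.mpr hsurj, finrank_top] at h1
  have h2 : LinearMap.ker (KaehlerDifferential.mapBaseChange k R (ResidueField R)) =
      LinearMap.range (cotMap k R) := (exact_cotMap_mapBaseChange k R).linearMap_ker_eq
  rw [h2, LinearMap.finrank_range_of_inj (cotMap_injective k R)] at h1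
  omega

end Seq

end Groth.Agent.Helper19.Jac
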