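import Mathlib
import Groth.Agent.Lib.Lead.RLR5

/-!
# The Jacobian criterion with dimensions, local form (helper19, for S2063/S4999)

`P` a regular local `k`-algebra, formally smooth with `Ω[P/k]` finite free; `A = P/I` local.
If `dim P + ρ ≤ N + dim A` (with `N = rank Ω_P`, `ρ = dim_κ κ ⊗ Ω_A`) then `A` is formally smooth.
-/

namespace Groth.Agent.Helper19.Jac

open TensorProduct IsLocalRing KaehlerDifferential Algebra

universe u

variable (k : Type u) [CommRing k]
  (P : Type u) [CommRing P] [Algebra k P]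
  (A : Type u) [CommRing A] [IsLocalRing A] [Algebra k A] [Algebra P A] [IsScalarTower k P A]
  (hsurj : Function.Surjective (algebraMap P A))

/-- The extension `P → A`. -/
noncomputable abbrev ext : Algebra.Extension k A :=
  { Ring := P, σ := Function.surjInv hsurj, algebraMap_σ := Function.surjInv_eq hsurj }

/-- `γ : κ ⊗ I/I² → κ ⊗ (A ⊗ Ω_P)`. -/
noncomputable def gam : (ResidueField A) ⊗[A] (ext k P A hsurj).Cotangent →ₗ[ResidueField A]
    (ResidueField A) ⊗[A] (ext k P A hsurj).CotangentSpace :=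
  (ext k P A hsurj).cotangentComplex.baseChange (ResidueField A)

/-- `τ : κ ⊗ (A ⊗ Ω_P) → κ ⊗ Ω_A`. -/
noncomputable def tau : (ResidueField A) ⊗[A] (ext k P A hsurj).CotangentSpace →ₗ[ResidueField A]
    (ResidueField A) ⊗[A] Ω[A⁄k] :=
  (ext k P A hsurj).toKaehler.baseChange (ResidueField A)

theorem tau_surjective : Function.Surjective (tau k P A hsurj) := by
  have := LinearMap.lTensor_surjective (ResidueField A) (ext k P A hsurj).toKaehler_surjective
  intro x
  obtain ⟨y, hy⟩ := this x
  exact ⟨y, hy⟩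

theorem range_gam_eq_ker_tau :
    LinearMap.range (gam k P A hsurj) = LinearMap.ker (tau k P A hsurj) := by
  have hex := lTensor_exact (ResidueField A) (ext k P A hsurj).exact_cotangentComplex_toKaehler
    (ext k P A hsurj).toKaehler_surjective
  ext x
  rw [LinearMap.mem_range, LinearMap.mem_ker]
  exact (hex x).symm

theorem gam_tmul_mk (a : ResidueField A) (f : (ext k P A hsurj).ker) :
    gam k P A hsurj (a ⊗ₜ[A] Extension.Cotangent.mk f) =
      a • ((1 : ResidueField A) ⊗ₜ[A] ((1 : A) ⊗ₜ[P] D k P f.1)) := by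
  rw [gam, LinearMap.baseChange_tmul, Extension.cotangentComplex_mk, TensorProduct.smul_tmul',
    smul_eq_mul, mul_one]

section Finite

variable [Module.Finite P Ω[P⁄k]]

instance : Module.Finite A (ext k P A hsurj).CotangentSpace :=
  inferInstanceAs (Module.Finite A (A ⊗[P] Ω[P⁄k]))

theorem finrank_range_gam_add :
    Module.finrank (ResidueField A) (LinearMap.range (gam k P A hsurj)) +
      Module.finrank (ResidueField A) ((ResidueField A) ⊗[A] Ω[A⁄k]) =
    Module.finrank (ResidueField A) ((ResidueField A) ⊗[A] (ext k P A hsurj).CotangentSpace) := by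
  have h1 := LinearMap.finrank_range_add_finrank_ker (tau k P A hsurj)
  rw [LinearMap.range_eq_top.mpr (tau_surjective k P A hsurj), finrank_top,
    ← range_gam_eq_ker_tau] at h1
  rw [← h1, add_comm]

end Finite

section Vanish

variable [IsLocalRing P]

include hsurj in
theorem residue_algebraMap_eq_zero {x : P} (hx : x ∈ maximalIdeal P) :
    algebraMap A (ResidueField A) (algebraMap P A x) = 0 := by
  have hs : Function.Surjective ((algebraMap A (ResidueField A)).comp (algebraMap P A)) :=
    residue_surjective.comp hsurj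
  haveI := RingHom.ker_isMaximal_of_surjective _ hs
  have h := IsLocalRing.eq_maximalIdeal (inferInstance :
    (RingHom.ker ((algebraMap A (ResidueField A)).comp (algebraMap P A))).IsMaximal)
  rw [← h] at hx
  exact hx

include hsurj in
theorem one_tmul_one_tmul_smul_eq_zero {x : P} (hx : x ∈ maximalIdeal P) (ω : Ω[P⁄k]) :
    (1 : ResidueField A) ⊗ₜ[A] ((1 : A) ⊗ₜ[P] (x • ω)) =
      (0 : (ResidueField A) ⊗[A] (A ⊗[P] Ω[P⁄k])) := by
  rw [TensorProduct.tmul_smul, ← algebraMap_smul A x ((1 : A) ⊗ₜ[P] ω), TensorProduct.tmul_smul,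
    TensorProduct.smul_tmul', Algebra.smul_def, mul_one, residue_algebraMap_eq_zero P A hsurj hx,
    TensorProduct.zero_tmul]

include hsurj in
theorem one_tmul_one_tmul_D_eq_zero {m : P} (hm : m ∈ maximalIdeal P ^ 2) :
    (1 : ResidueField A) ⊗ₜ[A] ((1 : A) ⊗ₜ[P] D k P m) =
      (0 : (ResidueField A) ⊗[A] (A ⊗[P] Ω[P⁄k])) := by
  rw [pow_two] at hm
  refine Submodule.mul_induction_on hm ?_ ?_
  · intro x hx y hy
    rw [Derivation.leibniz, TensorProduct.tmul_add, TensorProduct.tmul_add,
      one_tmul_one_tmul_smul_eq_zero k P A hsurj hx, one_tmul_one_tmul_smul_eq_zero k P A hsurj hy,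
      add_zero]
  · intro a b ha hb
    rw [map_add, TensorProduct.tmul_add, TensorProduct.tmul_add, ha, hb, add_zero]

theorem one_tmul_one_tmul_smul (r : P) (ω : Ω[P⁄k]) :
    (1 : ResidueField A) ⊗ₜ[A] ((1 : A) ⊗ₜ[P] (r • ω)) =
      (algebraMap A (ResidueField A) (algebraMap P A r)) •
        ((1 : ResidueField A) ⊗ₜ[A] ((1 : A) ⊗ₜ[P] ω) :
          (ResidueField A) ⊗[A] (A ⊗[P] Ω[P⁄k])) := by
  rw [TensorProduct.tmul_smul, ← algebraMap_smul A r ((1 : A) ⊗ₜ[P] ω), TensorProduct.tmul_smul,
    TensorProduct.smul_tmul', TensorProduct.smul_tmul', Algebra.smul_def, mul_one, smul_eq_mul,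
    mul_one]

theorem range_gam_le {c : ℕ} (z : Fin c → P) (hzm : ∀ i, z i ∈ maximalIdeal P)
    (hI : RingHom.ker (algebraMap P A) ≤ Ideal.span (Set.range z) ⊔ maximalIdeal P ^ 2) :
    LinearMap.range (gam k P A hsurj) ≤ Submodule.span (ResidueField A)
      (Set.range fun i => ((1 : ResidueField A) ⊗ₜ[A] ((1 : A) ⊗ₜ[P] D k P (z i)) :
        (ResidueField A) ⊗[A] (ext k P A hsurj).CotangentSpace)) := by
  rintro _ ⟨t, rfl⟩
  induction t using TensorProduct.induction_on with
  | zero => rw [map_zero]; exact Submodule.zero_mem _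
  | add x y hx hy => rw [map_add]; exact Submodule.add_mem _ hx hy
  | tmul a x =>
    obtain ⟨f, rfl⟩ := Extension.Cotangent.mk_surjective x
    rw [gam_tmul_mk]
    apply Submodule.smul_mem
    have hf : f.1 ∈ Ideal.span (Set.range z) ⊔ maximalIdeal P ^ 2 := hI f.2
    obtain ⟨j, hj, m, hm, hjm⟩ := Submodule.mem_sup.mp hf
    rw [← hjm, map_add, TensorProduct.tmul_add, TensorProduct.tmul_add]
    erw [one_tmul_one_tmul_D_eq_zero k P A hsurj hm, add_zero]
    obtain ⟨r, rfl⟩ := (Ideal.mem_span_range_iff_exists_fun).mp hj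
    rw [map_sum, TensorProduct.tmul_sum, TensorProduct.tmul_sum]
    refine Submodule.sum_mem _ fun i _ => ?_
    rw [Derivation.leibniz, TensorProduct.tmul_add, TensorProduct.tmul_add]
    erw [one_tmul_one_tmul_smul_eq_zero k P A hsurj (hzm i), add_zero,
      one_tmul_one_tmul_smul k P A (r i) (D k P (z i))]
    exact Submodule.smul_mem _ _ (Submodule.subset_span ⟨i, rfl⟩)

theorem span_domain_eq_top {c : ℕ} (z : Fin c → P)
    (hz : RingHom.ker (algebraMap P A) = Ideal.span (Set.range z)) :
    Submodule.span (ResidueField A) (Set.range fun i : Fin c =>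
      ((1 : ResidueField A) ⊗ₜ[A] Extension.Cotangent.mk (P := ext k P A hsurj)
        ⟨z i, by
          change z i ∈ RingHom.ker (algebraMap P A)
          rw [hz]; exact Ideal.subset_span ⟨i, rfl⟩⟩ :
        (ResidueField A) ⊗[A] (ext k P A hsurj).Cotangent)) = ⊤ := by
  rw [_root_.eq_top_iff]
  rintro t -
  induction t using TensorProduct.induction_on with
  | zero => exact Submodule.zero_mem _
  | add x y hx hy => exact Submodule.add_mem _ hx hy
  | tmul a x =>
    obtain ⟨f, rfl⟩ := Extension.Cotangent.mk_surjective x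
    have hf : f.1 ∈ Ideal.span (Set.range z) := by
      rw [← hz]; exact f.2
    obtain ⟨r, hr⟩ := (Ideal.mem_span_range_iff_exists_fun).mp hf
    have hfeq : f = ∑ i, r i • (⟨z i, by
          change z i ∈ RingHom.ker (algebraMap P A)
          rw [hz]; exact Ideal.subset_span ⟨i, rfl⟩⟩ : (ext k P A hsurj).ker) := by
      apply Subtype.ext
      rw [← hr]
      simp
    rw [hfeq, map_sum, TensorProduct.tmul_sum]
    refine Submodule.sum_mem _ fun i _ => ?_
    rw [map_smul, ← algebraMap_smul A (r i), TensorProduct.tmul_smul, TensorProduct.smul_tmul']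
    have : ((algebraMap P A (r i)) • a) ⊗ₜ[A] Extension.Cotangent.mk (P := ext k P A hsurj)
        ⟨z i, by
          change z i ∈ RingHom.ker (algebraMap P A)
          rw [hz]; exact Ideal.subset_span ⟨i, rfl⟩⟩ =
        ((algebraMap P A (r i)) • a) • ((1 : ResidueField A) ⊗ₜ[A]
          Extension.Cotangent.mk (P := ext k P A hsurj) ⟨z i, by
          change z i ∈ RingHom.ker (algebraMap P A)
          rw [hz]; exact Ideal.subset_span ⟨i, rfl⟩⟩) := by
      rw [TensorProduct.smul_tmul', smul_eq_mul, mul_one]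
    rw [this]
    exact Submodule.smul_mem _ _ (Submodule.subset_span ⟨i, rfl⟩)

end Vanish

end Groth.Agent.Helper19.Jac
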