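import Mathlib
import Groth.Agent.Lib.Helper19.Jac.Local

/-!
# The Jacobian criterion with dimensions, local form: converse (helper19)
-/

namespace Groth.Agent.Helper19.Jac

open TensorProduct IsLocalRing KaehlerDifferential Algebra

universe u

variable (k : Type u) [CommRing k]
  (P : Type u) [CommRing P] [Algebra k P]
  (A : Type u) [CommRing A] [IsLocalRing A] [Algebra k A] [Algebra P A] [IsScalarTower k P A]
  (hsurj : Function.Surjective (algebraMap P A))

/-- Number of generators of the kernel is at most the dimension of `κ ⊗ I/I²`. -/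
theorem spanFinrank_ker_le [IsLocalRing P] [IsNoetherianRing P] :
    (RingHom.ker (algebraMap P A)).spanFinrank ≤
      Module.finrank (ResidueField A)
        ((ResidueField A) ⊗[A] (ext k P A hsurj).Cotangent) := by
  classical
  have hFG : (ext k P A hsurj).ker.FG := IsNoetherian.noetherian _
  haveI : Module.Finite P (ext k P A hsurj).Cotangent :=
    haveI : Module.Finite P (ext k P A hsurj).ker := .of_fg hFG
    .of_surjective _ Extension.Cotangent.mk_surjective
  haveI : Module.Finite A (ext k P A hsurj).Cotangent :=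
    Module.Finite.of_restrictScalars_finite P _ _
  obtain ⟨m, hm⟩ : ∃ m, m = Module.finrank (ResidueField A)
      ((ResidueField A) ⊗[A] (ext k P A hsurj).Cotangent) := ⟨_, rfl⟩
  rw [← hm]
  let b : Module.Basis (Fin m) (ResidueField A)
      ((ResidueField A) ⊗[A] (ext k P A hsurj).Cotangent) :=
    Module.finBasisOfFinrankEq _ _ hm.symm
  have hs : Function.Surjective
      (TensorProduct.mk A (ResidueField A) (ext k P A hsurj).Cotangent 1) :=
    TensorProduct.mk_surjective A _ (ResidueField A) Ideal.Quotient.mk_surjective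
  choose x hx using fun i => hs (b i)
  have hspan : Submodule.span A (Set.range x) = ⊤ :=
    IsLocalRing.span_eq_top_of_tmul_eq_basis x b hx
  choose f hf using fun i => Extension.Cotangent.mk_surjective (x i)
  have hIm : RingHom.ker (algebraMap P A) ≤ maximalIdeal P :=
    IsLocalRing.le_maximalIdeal (RingHom.ker_ne_top _)
  -- Nakayama
  have hle : RingHom.ker (algebraMap P A) ≤
      Ideal.span (Set.range fun i => ((f i).1 : P)) := by
    apply Submodule.le_of_le_smul_of_le_jacobson_bot (I := RingHom.ker (algebraMap P A))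
      (IsNoetherian.noetherian _)
    · rw [IsLocalRing.jacobson_eq_maximalIdeal _ bot_ne_top]
      exact hIm
    · intro g hg
      have hmem : Extension.Cotangent.mk (P := ext k P A hsurj) ⟨g, hg⟩ ∈
          Submodule.span A (Set.range x) := by rw [hspan]; trivial
      obtain ⟨a, ha⟩ := (Submodule.mem_span_range_iff_exists_fun A).mp hmem
      choose p hp using fun i => hsurj (a i)
      have hsum : Extension.Cotangent.mk (P := ext k P A hsurj)
          (⟨g, hg⟩ - ∑ i, p i • f i) = 0 := by
        rw [map_sub, map_sum, ← ha, sub_eq_zero]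
        refine Finset.sum_congr rfl fun i _ => ?_
        rw [map_smul, hf, ← hp i, algebraMap_smul]
      rw [Extension.Cotangent.mk_eq_zero_iff] at hsum
      have hsq : g - ∑ i, p i * (f i).1 ∈ RingHom.ker (algebraMap P A) ^ 2 := by
        have : ((⟨g, hg⟩ - ∑ i, p i • f i : (ext k P A hsurj).ker) : P) =
            g - ∑ i, p i * (f i).1 := by
          simp
        rw [← this]
        exact hsum
      rw [pow_two] at hsq
      have h2 : g = ∑ i, p i * (f i).1 + (g - ∑ i, p i * (f i).1) := by ring
      rw [h2]
      refine Submodule.add_mem_sup ?_ hsq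
      refine Ideal.sum_mem _ fun i _ => ?_
      exact Ideal.mul_mem_left _ _ (Ideal.subset_span ⟨i, rfl⟩)
  have hge : Ideal.span (Set.range fun i => ((f i).1 : P)) ≤ RingHom.ker (algebraMap P A) := by
    rw [Ideal.span_le]
    rintro _ ⟨i, rfl⟩
    exact (f i).2
  have heq := le_antisymm hle hge
  rw [heq]
  refine (Submodule.spanFinrank_span_le_ncard_of_finite (Set.finite_range _)).trans ?_
  have := Set.ncard_image_le (f := fun i : Fin m => ((f i).1 : P)) (s := Set.univ)
    (Set.finite_univ)
  rw [Set.image_univ] at this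
  refine this.trans ?_
  rw [Set.ncard_univ, Nat.card_fin]

theorem dim_le_of_formallySmooth [IsLocalRing P] [IsNoetherianRing P]
    [Algebra.FormallySmooth k P]
    [Module.Free P Ω[P⁄k]] [Module.Finite P Ω[P⁄k]] [Algebra.FormallySmooth k A] :
    ringKrullDim P +
        ((Module.finrank (ResidueField A) ((ResidueField A) ⊗[A] Ω[A⁄k]) : ℕ) : WithBot ℕ∞) ≤
      ((Module.finrank (ResidueField A)
        ((ResidueField A) ⊗[A] (ext k P A hsurj).CotangentSpace) : ℕ) : WithBot ℕ∞) +
        ringKrullDim A := by
  have hFG : (ext k P A hsurj).ker.FG := IsNoetherian.noetherian _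
  have hinj0 := (Algebra.FormallySmooth.iff_injective_lTensor_residueField
    (ext k P A hsurj) hFG).mp inferInstance
  have hinj : Function.Injective (gam k P A hsurj) := fun x y hxy => hinj0 hxy
  have h1 := LinearMap.finrank_range_of_inj hinj
  have h2 := finrank_range_gam_add k P A hsurj
  have h3 := spanFinrank_ker_le k P A hsurj
  have hIm : RingHom.ker (algebraMap P A) ≤ Ring.jacobson P := by
    rw [IsLocalRing.ringJacobson_eq_maximalIdeal]
    exact IsLocalRing.le_maximalIdeal (RingHom.ker_ne_top _)
  have h4 := ringKrullDim_le_ringKrullDim_quotient_add_spanFinrank _ hIm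
  have hdA : ringKrullDim A = ringKrullDim (P ⧸ RingHom.ker (algebraMap P A)) :=
    (ringKrullDim_eq_of_ringEquiv (RingHom.quotientKerEquivOfSurjective hsurj)).symm
  rw [← hdA] at h4
  -- arithmetic
  obtain ⟨ρ, hρ⟩ : ∃ ρ, ρ = Module.finrank (ResidueField A) ((ResidueField A) ⊗[A] Ω[A⁄k]) :=
    ⟨_, rfl⟩
  obtain ⟨N, hN⟩ : ∃ N, N = Module.finrank (ResidueField A)
      ((ResidueField A) ⊗[A] (ext k P A hsurj).CotangentSpace) := ⟨_, rfl⟩
  obtain ⟨s, hs⟩ : ∃ s, s = (RingHom.ker (algebraMap P A)).spanFinrank := ⟨_, rfl⟩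
  rw [← hρ, ← hN] at h2 ⊢
  rw [← hs] at h3 h4
  have h5 : s + ρ ≤ N := by omega
  calc ringKrullDim P + (ρ : WithBot ℕ∞) ≤ (ringKrullDim A + (s : WithBot ℕ∞)) + (ρ : WithBot ℕ∞) := by
        gcongr
    _ = ((s + ρ : ℕ) : WithBot ℕ∞) + ringKrullDim A := by
        push_cast; ring
    _ ≤ (N : WithBot ℕ∞) + ringKrullDim A := by
        gcongr

end Groth.Agent.Helper19.Jac
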