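import Mathlib
import Groth.Agent.Lib.Lead.RLR5
import Groth.Agent.Lib.Helper19.Jac.Local

/-!
# The Jacobian criterion with dimensions, local form: main theorem (helper19)
-/

namespace Groth.Agent.Helper19.Jac

open TensorProduct IsLocalRing KaehlerDifferential Algebra

universe u

variable (k : Type u) [CommRing k]
  (P : Type u) [CommRing P] [Algebra k P]
  (A : Type u) [CommRing A] [IsLocalRing A] [Algebra k A] [Algebra P A] [IsScalarTower k P A]
  (hsurj : Function.Surjective (algebraMap P A))

theorem formallySmooth_of_dim_le [IsRegularLocalRing P] [Algebra.FormallySmooth k P]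
    [Module.Free P Ω[P⁄k]] [Module.Finite P Ω[P⁄k]]
    (hdim : ringKrullDim P +
        ((Module.finrank (ResidueField A) ((ResidueField A) ⊗[A] Ω[A⁄k]) : ℕ) : WithBot ℕ∞) ≤
      ((Module.finrank (ResidueField A)
        ((ResidueField A) ⊗[A] (ext k P A hsurj).CotangentSpace) : ℕ) : WithBot ℕ∞) +
        ringKrullDim A) :
    Algebra.FormallySmooth k A := by
  classical
  obtain ⟨I, hIdef⟩ : ∃ I : Ideal P, I = RingHom.ker (algebraMap P A) := ⟨_, rfl⟩
  have hIne : I ≠ ⊤ := by rw [hIdef]; exact RingHom.ker_ne_top _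
  have hIm : I ≤ maximalIdeal P := IsLocalRing.le_maximalIdeal hIne
  obtain ⟨c, e, z, hce, hz, hzI, hIle⟩ := Groth.Agent.Lead.RLR.exists_generators_adapted I hIm
  obtain ⟨z', hz'⟩ : ∃ z' : Fin c → P, z' = fun i => z (Fin.castAdd e i) := ⟨_, rfl⟩
  have hJI : Ideal.span (Set.range z') ≤ I := by
    rw [Ideal.span_le]
    rintro _ ⟨i, rfl⟩
    rw [hz']
    exact hzI i
  have hJne : Ideal.span (Set.range z') ≠ ⊤ := fun h => hIne (top_le_iff.mp (h ▸ hJI))
  haveI : IsLocalRing (P ⧸ Ideal.span (Set.range z')) :=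
    Groth.Agent.Lead.RLR.isLocalRing_quotient hJne
  have hregJ : IsRegularLocalRing (P ⧸ Ideal.span (Set.range z')) ∧
      ringKrullDim (P ⧸ Ideal.span (Set.range z')) = e := by
    subst hz'
    exact Groth.Agent.Lead.RLR.isRegularLocalRing_quotient_span_range z hz hce.symm
  obtain ⟨hreg, hdimJ⟩ := hregJ
  haveI := hreg
  haveI : IsDomain (P ⧸ Ideal.span (Set.range z')) := Groth.Agent.Lead.RLR.isDomain _
  have hF2 := finrank_range_gam_add k P A hsurj
  have hzm : ∀ i, z' i ∈ maximalIdeal P := fun i => hIm (by rw [hz']; exact hzI i)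
  have hIle' : RingHom.ker (algebraMap P A) ≤
      Ideal.span (Set.range z') ⊔ maximalIdeal P ^ 2 := by
    rw [← hIdef, hz']; exact hIle
  have hF4 : Module.finrank (ResidueField A) (LinearMap.range (gam k P A hsurj)) ≤ c := by
    have h1 := Submodule.finrank_mono (range_gam_le k P A hsurj z' hzm hIle')
    have h2 := finrank_range_le_card (R := ResidueField A)
      (fun i => ((1 : ResidueField A) ⊗ₜ[A] ((1 : A) ⊗ₜ[P] D k P (z' i)) :
        (ResidueField A) ⊗[A] (ext k P A hsurj).CotangentSpace))
    rw [Fintype.card_fin] at h2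
    exact h1.trans h2
  have hdP : ringKrullDim P = ((c + e : ℕ) : WithBot ℕ∞) := by
    rw [← IsRegularLocalRing.spanFinrank_maximalIdeal, ← hce]
  have hdA : ringKrullDim A = ringKrullDim (P ⧸ I) := by
    rw [hIdef]
    exact (ringKrullDim_eq_of_ringEquiv (RingHom.quotientKerEquivOfSurjective hsurj)).symm
  have hAle : ringKrullDim (P ⧸ I) ≤ ringKrullDim (P ⧸ Ideal.span (Set.range z')) :=
    ringKrullDim_le_of_surjective (Ideal.Quotient.factor hJI) (Ideal.Quotient.factor_surjective hJI)
  haveI : Nontrivial (P ⧸ I) := Ideal.Quotient.nontrivial_iff.mpr hIne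
  obtain ⟨a, ha, hae⟩ := Groth.Agent.Lead.RLR.exists_nat_of_le
    (ringKrullDim_nonneg_of_nontrivial (R := P ⧸ I)) (hdimJ ▸ hAle)
  have h1 : c + e + Module.finrank (ResidueField A) ((ResidueField A) ⊗[A] Ω[A⁄k]) ≤
      Module.finrank (ResidueField A)
        ((ResidueField A) ⊗[A] (ext k P A hsurj).CotangentSpace) + a := by
    rw [hdP, hdA, ha] at hdim
    exact_mod_cast hdim
  have h3 : e ≤ a := by omega
  have hIJ : I = Ideal.span (Set.range z') :=
    Groth.Agent.Lead.RLR.eq_of_le_of_ringKrullDim_le hJI (le_of_eq hdimJ)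
      (by rw [ha]; exact_mod_cast h3)
  have h4 : Module.finrank (ResidueField A) (LinearMap.range (gam k P A hsurj)) = c := by omega
  have hspan := span_domain_eq_top k P A hsurj z' (hIdef ▸ hIJ)
  haveI : Module.Finite (ResidueField A) ((ResidueField A) ⊗[A] (ext k P A hsurj).Cotangent) := by
    refine ⟨⟨(Finset.univ : Finset (Fin c)).image (fun i : Fin c =>
      ((1 : ResidueField A) ⊗ₜ[A] Extension.Cotangent.mk (P := ext k P A hsurj)
        ⟨z' i, by
          change z' i ∈ RingHom.ker (algebraMap P A)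
          rw [← hIdef, hIJ]; exact Ideal.subset_span ⟨i, rfl⟩⟩ :
        (ResidueField A) ⊗[A] (ext k P A hsurj).Cotangent)), ?_⟩⟩
    rw [Finset.coe_image, Finset.coe_univ, Set.image_univ]
    exact hspan
  have h5 : Module.finrank (ResidueField A)
      ((ResidueField A) ⊗[A] (ext k P A hsurj).Cotangent) ≤ c := by
    have h := finrank_range_le_card (R := ResidueField A) (fun i : Fin c =>
      ((1 : ResidueField A) ⊗ₜ[A] Extension.Cotangent.mk (P := ext k P A hsurj)
        ⟨z' i, by
          change z' i ∈ RingHom.ker (algebraMap P A)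
          rw [← hIdef, hIJ]; exact Ideal.subset_span ⟨i, rfl⟩⟩ :
        (ResidueField A) ⊗[A] (ext k P A hsurj).Cotangent))
    rw [Set.finrank, hspan, finrank_top, Fintype.card_fin] at h
    exact h
  have h6 := LinearMap.finrank_range_add_finrank_ker (gam k P A hsurj)
  have h7 : Module.finrank (ResidueField A) (LinearMap.ker (gam k P A hsurj)) = 0 := by omega
  have hker : LinearMap.ker (gam k P A hsurj) = ⊥ := Submodule.finrank_eq_zero.mp h7
  have hinj : Function.Injective (gam k P A hsurj) := LinearMap.ker_eq_bot.mp hker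
  haveI : IsNoetherianRing P := inferInstance
  have hFG : (ext k P A hsurj).ker.FG := IsNoetherian.noetherian _
  rw [Algebra.FormallySmooth.iff_injective_lTensor_residueField (ext k P A hsurj) hFG]
  intro x y hxy
  exact hinj hxy

end Groth.Agent.Helper19.Jac
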