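import Mathlib
import Groth.Agent.S2143
import Groth.Agent.Lib.Helper14.LocalDimSpec
import Groth.Agent.Lib.Helper14.SmoothDim
import Groth.Agent.Lib.Helper19.Jac.Main
import Groth.Agent.Lib.Helper19.Jac.Converse
import Groth.Agent.Lib.Helper19.OmegaFib.Cotangent

/-!
# The Jacobian criterion with dimensions, global form (helper19)
-/

namespace Groth.Agent.Helper19.Jac

open TensorProduct IsLocalRing KaehlerDifferential Algebra

universe u

theorem height_add_trdeg_mvPolynomial (k : Type u) [Field k] (n : ℕ)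
    (Q : Ideal (MvPolynomial (Fin n) k)) [hQ : Q.IsPrime] (r : ℕ)
    (hr : Algebra.trdeg k (MvPolynomial (Fin n) k ⧸ Q) = r) :
    ((Q.height : ℕ∞) : WithBot ℕ∞) + (r : WithBot ℕ∞) = (n : WithBot ℕ∞) := by
  have h1 := Groth.Agent.Helper14.LocalDimSpec.localDim_eq k (MvPolynomial (Fin n) k) Q r hr
  have h2 := Groth.Agent.S2143.result (k := k) (S := MvPolynomial (Fin n) k) Q
  have h3 : ∀ m : {m : Ideal (MvPolynomial (Fin n) k) // m.IsMaximal ∧ Q ≤ m},
      ringKrullDim (Localization.AtPrime (hp := m.2.1.isPrime') m.1) = (n : WithBot ℕ∞) := by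
    intro m
    haveI := m.2.1
    rw [IsLocalization.AtPrime.ringKrullDim_eq_height m.1,
      Groth.Agent.Helper14.SmoothDim.height_eq_of_isMaximal_mvPolynomial k n m.1]
    rfl
  obtain ⟨M, hM, hQM⟩ := Ideal.exists_le_maximal Q hQ.ne_top
  haveI : Nonempty {m : Ideal (MvPolynomial (Fin n) k) // m.IsMaximal ∧ Q ≤ m} :=
    ⟨⟨M, hM, hQM⟩⟩
  rw [iInf_congr h3, iInf_const] at h2
  rw [← h1, h2]

variable (k : Type u) [Field k] (S : Type u) [CommRing S] [Algebra k S] [Algebra.FiniteType k S]
  (q : Ideal S) [q.IsPrime]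

theorem isSmoothAt_iff_le (r : ℕ) (hr : Algebra.trdeg k (S ⧸ q) = r) :
    Algebra.IsSmoothAt k q ↔
    ((Module.finrank q.ResidueField (q.ResidueField ⊗[S] Ω[S⁄k]) : ℕ) : WithBot ℕ∞) ≤
      ringKrullDim (Localization.AtPrime q) + (r : WithBot ℕ∞) := by
  obtain ⟨n, f₀, hf₀⟩ := Algebra.FiniteType.iff_quotient_mvPolynomial''.mp
    (inferInstance : Algebra.FiniteType k S)
  set Q : Ideal (MvPolynomial (Fin n) k) := q.comap f₀.toRingHom with hQ
  haveI : Q.IsPrime := Ideal.comap_isPrime _ _
  set fP : Localization.AtPrime Q →+* Localization.AtPrime q :=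
    Localization.localRingHom Q q f₀.toRingHom rfl with hfP
  have hsurj : Function.Surjective fP :=
    RingHom.surjective_localRingHom_of_surjective f₀.toRingHom hf₀ q
  letI : Algebra (Localization.AtPrime Q) (Localization.AtPrime q) := fP.toAlgebra
  haveI : IsScalarTower k (Localization.AtPrime Q) (Localization.AtPrime q) := by
    refine IsScalarTower.of_algebraMap_eq (fun x => ?_)
    rw [RingHom.algebraMap_toAlgebra, IsScalarTower.algebraMap_apply k (MvPolynomial (Fin n) k)
      (Localization.AtPrime Q), hfP, Localization.localRingHom_to_map,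
      IsScalarTower.algebraMap_apply k S (Localization.AtPrime q)]
    simp
  haveI : Algebra.FormallyEtale (MvPolynomial (Fin n) k) (Localization.AtPrime Q) :=
    .of_isLocalization Q.primeCompl
  haveI : Algebra.FormallySmooth k (Localization.AtPrime Q) :=
    .comp _ (MvPolynomial (Fin n) k) _
  have eΩ := KaehlerDifferential.tensorKaehlerEquivOfFormallyEtale k (MvPolynomial (Fin n) k)
      (Localization.AtPrime Q)
  haveI : Module.Free (Localization.AtPrime Q) Ω[Localization.AtPrime Q⁄k] := .of_equiv eΩ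
  haveI : Module.Finite (Localization.AtPrime Q) Ω[Localization.AtPrime Q⁄k] :=
    Module.Finite.equiv eΩ
  haveI : IsRegularLocalRing (Localization.AtPrime Q) :=
    IsRegularRing.isRegularLocalRing_localization Q
  -- the rank of `Ω_P`
  have hN : Module.finrank (ResidueField (Localization.AtPrime q))
      ((ResidueField (Localization.AtPrime q)) ⊗[Localization.AtPrime q]
        (ext k (Localization.AtPrime Q) (Localization.AtPrime q) hsurj).CotangentSpace) = n := by
    change Module.finrank (ResidueField (Localization.AtPrime q))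
      ((ResidueField (Localization.AtPrime q)) ⊗[Localization.AtPrime q]
        ((Localization.AtPrime q) ⊗[Localization.AtPrime Q] Ω[Localization.AtPrime Q⁄k])) = n
    rw [Module.finrank_baseChange, Module.finrank_baseChange, ← eΩ.finrank_eq,
      Module.finrank_baseChange,
      Module.finrank_eq_card_basis (KaehlerDifferential.mvPolynomialBasis k (Fin n)),
      Fintype.card_fin]
  -- transcendence degrees
  have hrQ : Algebra.trdeg k (MvPolynomial (Fin n) k ⧸ Q) = r := by
    rw [← hr]
    have hs : Function.Surjective ((Ideal.Quotient.mkₐ k q).comp f₀) :=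
      (Ideal.Quotient.mkₐ_surjective k q).comp hf₀
    have hker : RingHom.ker ((Ideal.Quotient.mkₐ k q).comp f₀) = Q := by
      ext x
      rw [RingHom.mem_ker, hQ, Ideal.mem_comap]
      change Ideal.Quotient.mk q (f₀ x) = 0 ↔ _
      rw [Ideal.Quotient.eq_zero_iff_mem]
      rfl
    exact ((Ideal.quotientEquivAlgOfEq k hker.symm).trans
      (Ideal.quotientKerAlgEquivOfSurjective hs)).trdeg_eq
  have hQr := height_add_trdeg_mvPolynomial k n Q r hrQ
  have hdP : ringKrullDim (Localization.AtPrime Q) = ((Q.height : ℕ∞) : WithBot ℕ∞) :=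
    IsLocalization.AtPrime.ringKrullDim_eq_height Q (Localization.AtPrime Q)
  have hρ := Groth.Agent.Helper19.OmegaFib.finrank_fibre_kaehler_eq_localization k S q
  have hdq : ringKrullDim (Localization.AtPrime q) = ((q.height : ℕ∞) : WithBot ℕ∞) :=
    IsLocalization.AtPrime.ringKrullDim_eq_height q (Localization.AtPrime q)
  have hQr' : Q.height + (r : ℕ∞) = (n : ℕ∞) := by exact_mod_cast hQr
  obtain ⟨ρ, hρdef⟩ : ∃ ρ : ℕ, ρ = Module.finrank q.ResidueField (q.ResidueField ⊗[S] Ω[S⁄k]) :=
    ⟨_, rfl⟩
  constructor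
  · intro hsm
    haveI : Algebra.FormallySmooth k (Localization.AtPrime q) := hsm
    have hc := dim_le_of_formallySmooth k (Localization.AtPrime Q) (Localization.AtPrime q) hsurj
    rw [hN, ← hρ, hdP, hdq, ← hρdef] at hc
    rw [hdq, ← hρdef]
    have hc' : Q.height + (ρ : ℕ∞) ≤ (n : ℕ∞) + q.height := by exact_mod_cast hc
    have hQtop : Q.height ≠ ⊤ := by
      intro htop
      rw [htop, top_add] at hQr'
      exact ENat.top_ne_natCast n hQr'
    have goal : (ρ : ℕ∞) ≤ q.height + (r : ℕ∞) := by
      rw [← hQr'] at hc'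
      have : Q.height + (ρ : ℕ∞) ≤ Q.height + (q.height + (r : ℕ∞)) := by
        calc Q.height + (ρ : ℕ∞) ≤ Q.height + (r : ℕ∞) + q.height := hc'
          _ = Q.height + (q.height + (r : ℕ∞)) := by ring
      exact (ENat.add_le_add_iff_left hQtop).mp this
    exact_mod_cast goal
  · intro h
    change Algebra.FormallySmooth k (Localization.AtPrime q)
    apply formallySmooth_of_dim_le k (Localization.AtPrime Q) (Localization.AtPrime q) hsurj
    rw [hN, ← hρ, hdP]
    -- arithmetic
    rw [hdq] at h ⊢
    rw [← hρdef] at h ⊢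
    have h' : (ρ : ℕ∞) ≤ q.height + (r : ℕ∞) := by exact_mod_cast h
    have goal : Q.height + (ρ : ℕ∞) ≤ (n : ℕ∞) + q.height := by
      calc Q.height + (ρ : ℕ∞) ≤ Q.height + (q.height + (r : ℕ∞)) := by gcongr
        _ = (Q.height + (r : ℕ∞)) + q.height := by ring
        _ = (n : ℕ∞) + q.height := by rw [hQr']
    exact_mod_cast goal

end Groth.Agent.Helper19.Jac
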