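import Mathlib
import Groth.Agent.Lib.Helper19.Jac.Global
import Groth.Agent.Lib.Helper14.GeomRedSmooth
import Groth.Agent.Lib.Helper14.EtaleReduced
import Groth.Agent.Lib.Helper14.LocalDimAlg
import Groth.Agent.Lib.Helper14.LocalDimSpec
import Groth.Agent.Lib.Helper9.Cartier2
import Groth.Agent.Lib.Helper9.Cartier6

/-!
# Smoothness over a field via projectivity of `Ω` and generic geometric reducedness
(helper19, S4999)
-/

namespace Groth.Agent.Helper19.Jac

open scoped TensorProduct
open IsLocalRing

universe u

/-- For a finitely generated geometrically reduced field extension, `dim Ω = trdeg`. -/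
theorem finrank_kaehler_eq_trdeg (k K : Type u) [Field k] [Field K] [Algebra k K]
    [Algebra.IsGeometricallyReduced k K] [Algebra.EssFiniteType k K] :
    Module.finrank K (Ω[K⁄k]) = Cardinal.toNat (Algebra.trdeg k K) := by
  haveI := Groth.Agent.Helper14.formallySmooth_of_isGeometricallyReduced_of_essFiniteType k K
  obtain ⟨h1, h2, h3, h4⟩ := Groth.Agent.Helper9.Cartier.P.of_essFiniteType k K
  have hbot : EGA41.imperfection ℤ k K = ⊥ :=
    Groth.Agent.Helper9.Cartier.imperfection_eq_bot_of_formallySmooth
  rw [hbot, finrank_bot] at h4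
  have : (Module.finrank K (Ω[K⁄k]) : ℤ) = (Cardinal.toNat (Algebra.trdeg k K) : ℤ) := by
    simpa using h4
  exact_mod_cast this

/-- Localizations of smooth algebras over a field are geometrically reduced. -/
theorem isGeometricallyReduced_of_smooth_of_isLocalization (k A : Type u) [Field k] [CommRing A]
    [Algebra k A] [Algebra.Smooth k A] (M : Submonoid A) (B : Type u) [CommRing B] [Algebra A B]
    [Algebra k B] [IsScalarTower k A B] [IsLocalization M B] :
    Algebra.IsGeometricallyReduced k B := by
  rw [Algebra.isGeometricallyReduced_field_iff]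
  obtain ⟨k', hk'⟩ : ∃ T, T = AlgebraicClosure k := ⟨_, rfl⟩
  letI : Algebra (AlgebraicClosure k ⊗[k] A) (AlgebraicClosure k ⊗[k] B) :=
    (Algebra.TensorProduct.map (AlgHom.id (AlgebraicClosure k) (AlgebraicClosure k))
      (IsScalarTower.toAlgHom k A B)).toRingHom.toAlgebra
  haveI : IsScalarTower (AlgebraicClosure k) (AlgebraicClosure k ⊗[k] A)
      (AlgebraicClosure k ⊗[k] B) := IsScalarTower.of_algebraMap_eq fun x => by
    change _ = Algebra.TensorProduct.map (AlgHom.id (AlgebraicClosure k) (AlgebraicClosure k))
      (IsScalarTower.toAlgHom k A B) (x ⊗ₜ 1)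
    simp
  haveI := IsLocalization.tensorProduct_tensorProduct_right k (AlgebraicClosure k) M B (by
    ext a
    change Algebra.TensorProduct.map (AlgHom.id (AlgebraicClosure k) (AlgebraicClosure k))
      (IsScalarTower.toAlgHom k A B) (1 ⊗ₜ a) = 1 ⊗ₜ algebraMap A B a
    simp)
  haveI : IsReduced (AlgebraicClosure k ⊗[k] A) :=
    Groth.Agent.Helper14.isReduced_of_smooth (AlgebraicClosure k) _
  exact isReduced_localizationPreserves
    (M.map (Algebra.TensorProduct.includeRight (R := k) (A := AlgebraicClosure k)))
    (AlgebraicClosure k ⊗[k] B) inferInstance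

/-- At a minimal prime `p` with `A_p` reduced, `A_p → κ(p)` is bijective. -/
theorem residue_bijective_of_minimal {A : Type*} [CommRing A] (p : Ideal A) [p.IsPrime]
    (hp : p ∈ minimalPrimes A) [IsReduced (Localization.AtPrime p)] :
    Function.Bijective (algebraMap (Localization.AtPrime p) p.ResidueField) := by
  haveI := IsLocalization.subsingleton_primeSpectrum_of_mem_minimalPrimes p hp
    (Localization.AtPrime p)
  have hmax : maximalIdeal (Localization.AtPrime p) = ⊥ := by
    have h1 : nilradical (Localization.AtPrime p) = ⊥ := nilradical_eq_zero _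
    rw [← h1, nilradical_eq_sInf]
    apply le_antisymm
    · apply le_sInf
      intro J hJ
      have hJ' : J.IsPrime := hJ
      have : (⟨J, hJ'⟩ : PrimeSpectrum (Localization.AtPrime p)) =
          ⟨maximalIdeal _, inferInstance⟩ := Subsingleton.elim _ _
      have h2 : J = maximalIdeal _ := congrArg PrimeSpectrum.asIdeal this
      rw [h2]
    · exact sInf_le (inferInstance : (maximalIdeal (Localization.AtPrime p)).IsPrime)
  refine ⟨?_, IsLocalRing.residue_surjective⟩
  rw [injective_iff_map_eq_zero]
  intro x hx
  have : x ∈ maximalIdeal (Localization.AtPrime p) := (IsLocalRing.residue_eq_zero_iff x).mp hx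
  rw [hmax] at this
  simpa using this

section

variable (k : Type u) [Field k] (A : Type u) [CommRing A] [Algebra k A] [Algebra.FiniteType k A]

theorem finrank_fibre_minimal (p : Ideal A) [p.IsPrime] (hp : p ∈ minimalPrimes A)
    [Algebra.IsGeometricallyReduced k (Localization.AtPrime p)] :
    Module.finrank p.ResidueField (p.ResidueField ⊗[A] Ω[A⁄k]) =
      Cardinal.toNat (Algebra.trdeg k (A ⧸ p)) := by
  haveI : IsReduced (Localization.AtPrime p) := Algebra.isReduced_of_isGeometricallyReduced k
  have hbij := residue_bijective_of_minimal p hp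
  let e : Localization.AtPrime p ≃ₐ[A] p.ResidueField :=
    AlgEquiv.ofBijective (IsScalarTower.toAlgHom A _ _) hbij
  haveI : IsLocalization p.primeCompl p.ResidueField :=
    IsLocalization.isLocalization_of_algEquiv p.primeCompl e
  haveI : Algebra.FormallyEtale A p.ResidueField :=
    Algebra.FormallyEtale.of_isLocalization p.primeCompl
  haveI : Algebra.IsGeometricallyReduced k p.ResidueField :=
    Algebra.IsGeometricallyReduced.of_injective
      (e.symm.toAlgHom.restrictScalars k : p.ResidueField →ₐ[k] Localization.AtPrime p)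
      e.symm.injective
  haveI : Algebra.EssFiniteType A p.ResidueField :=
    Algebra.EssFiniteType.of_isLocalization _ p.primeCompl
  haveI : Algebra.EssFiniteType k p.ResidueField := Algebra.EssFiniteType.comp k A _
  rw [(KaehlerDifferential.tensorKaehlerEquivOfFormallyEtale k A p.ResidueField).finrank_eq,
    finrank_kaehler_eq_trdeg, Groth.Agent.Helper14.LocalDimSpec.trdeg_residueField]

theorem isSmoothAt_of_maximal (hproj : Module.Projective A (Ω[A⁄k]))
    (hgr : ∀ (p : Ideal A) [p.IsPrime], p ∈ minimalPrimes A →
      Algebra.IsGeometricallyReduced k (Localization.AtPrime p))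
    (m : Ideal A) [hm : m.IsMaximal] : Algebra.IsSmoothAt k m := by
  haveI : IsNoetherianRing A := Algebra.FiniteType.isNoetherianRing k A
  have htr := Groth.Agent.Helper14.LocalDimAlg.trdeg_quotient_maximal k A m
  rw [isSmoothAt_iff_le k A m 0 (by simpa using htr)]
  obtain ⟨p, hp, hpm⟩ := Ideal.exists_minimalPrimes_le (bot_le : ⊥ ≤ m)
  haveI := hp.1.1
  haveI := hgr p hp
  have e1 : Module.finrank m.ResidueField (m.ResidueField ⊗[A] Ω[A⁄k]) =
      Module.finrank p.ResidueField (p.ResidueField ⊗[A] Ω[A⁄k]) := by
    have := Module.rankAtStalk_eq_of_le_of_finite_of_flat' (Ω[A⁄k]) hpm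
    rw [Module.rankAtStalk_eq, Module.rankAtStalk_eq] at this
    exact this.symm
  rw [e1, finrank_fibre_minimal k A p hp]
  have h1 := Groth.Agent.Helper14.LocalDimAlg.height_map_add_trdeg k A p m hpm
  rw [htr, add_zero] at h1
  rw [← h1, Cardinal.toNat_ofENat]
  have h2 := Groth.Agent.Helper14.LocalDimAlg.height_map_le p m hpm
  rw [IsLocalization.AtPrime.ringKrullDim_eq_height m]
  have h3 : (((m.map (Ideal.Quotient.mk p)).height.toNat : ℕ) : ℕ∞) ≤ m.height :=
    (ENat.natCast_toNat_le_self _).trans h2
  have h4 : (((m.map (Ideal.Quotient.mk p)).height.toNat : ℕ) : WithBot ℕ∞) ≤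
      ((m.height : ℕ∞) : WithBot ℕ∞) := by exact_mod_cast h3
  simpa using h4

theorem smooth_iff :
    Algebra.Smooth k A ↔
      Module.Projective A (Ω[A⁄k]) ∧
        ∀ (p : Ideal A) [p.IsPrime], p ∈ minimalPrimes A →
          Algebra.IsGeometricallyReduced k (Localization.AtPrime p) := by
  haveI : IsNoetherianRing A := Algebra.FiniteType.isNoetherianRing k A
  haveI : Algebra.FinitePresentation k A :=
    Algebra.FinitePresentation.of_finiteType.mp inferInstance
  constructor
  · intro hs
    haveI := hs
    refine ⟨inferInstance, ?_⟩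
    intro p hp _
    exact isGeometricallyReduced_of_smooth_of_isLocalization k A p.primeCompl _
  · rintro ⟨hproj, hgr⟩
    have hsm : Algebra.smoothLocus k A = Set.univ := by
      by_contra hne
      have hopen := Algebra.isOpen_smoothLocus (R := k) (A := A)
      obtain ⟨I, hI⟩ := (PrimeSpectrum.isClosed_iff_zeroLocus_ideal _).mp hopen.isClosed_compl
      have hne' : (Algebra.smoothLocus k A)ᶜ.Nonempty := Set.nonempty_compl.mpr hne
      rw [hI] at hne'
      obtain ⟨p, hp⟩ := hne'
      obtain ⟨m, hm, hpm⟩ := Ideal.exists_le_maximal p.asIdeal p.2.ne_top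
      have hmem : (⟨m, hm.isPrime⟩ : PrimeSpectrum A) ∈ PrimeSpectrum.zeroLocus (I : Set A) :=
        fun x hx => hpm (hp hx)
      rw [← hI] at hmem
      apply hmem
      haveI := hm
      exact isSmoothAt_of_maximal k A hproj hgr m
    have hfs : Algebra.FormallySmooth k A := Algebra.smoothLocus_eq_univ_iff.mp hsm
    exact ⟨hfs, inferInstance⟩

end

end Groth.Agent.Helper19.Jac
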