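import Mathlib
import Groth.Agent.Lib.Helper19.Jac.Generic

/-!
# Generic smoothness over a field ⟺ geometric reducedness at minimal primes (helper19, S5012)
-/

namespace Groth.Agent.Helper19.Jac

open scoped TensorProduct
open IsLocalRing

universe u

variable (k : Type u) [Field k] (A : Type u) [CommRing A] [Algebra k A] [Algebra.FiniteType k A]

/-- If `A` is smooth at `p` over the field `k` then `A_p` is geometrically reduced over `k`. -/
theorem isGeometricallyReduced_of_isSmoothAt (p : Ideal A) [p.IsPrime]
    (hp : Algebra.IsSmoothAt k p) :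
    Algebra.IsGeometricallyReduced k (Localization.AtPrime p) := by
  haveI : IsNoetherianRing A := Algebra.FiniteType.isNoetherianRing k A
  haveI : Algebra.FinitePresentation k A :=
    Algebra.FinitePresentation.of_finiteType.mp inferInstance
  haveI := hp
  obtain ⟨f, hfp, hsm⟩ := Algebra.IsSmoothAt.exists_notMem_smooth k p
  have hunit : IsUnit (algebraMap A (Localization.AtPrime p) f) :=
    IsLocalization.map_units (Localization.AtPrime p) (⟨f, hfp⟩ : p.primeCompl)
  letI : Algebra (Localization.Away f) (Localization.AtPrime p) :=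
    (IsLocalization.Away.lift f hunit).toAlgebra
  haveI : IsScalarTower A (Localization.Away f) (Localization.AtPrime p) :=
    IsScalarTower.of_algebraMap_eq fun x => by
      rw [RingHom.algebraMap_toAlgebra, IsLocalization.Away.lift_eq]
  haveI : IsScalarTower k (Localization.Away f) (Localization.AtPrime p) :=
    IsScalarTower.of_algebraMap_eq fun x => by
      rw [IsScalarTower.algebraMap_apply k A (Localization.AtPrime p),
        IsScalarTower.algebraMap_apply k A (Localization.Away f),
        ← IsScalarTower.algebraMap_apply A (Localization.Away f) (Localization.AtPrime p)]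
  have hle : Submonoid.powers f ≤ p.primeCompl := by
    rintro _ ⟨n, rfl⟩
    exact fun h => hfp (Ideal.IsPrime.mem_of_pow_mem inferInstance n h)
  haveI := IsLocalization.isLocalization_of_submonoid_le (Localization.Away f)
    (Localization.AtPrime p) (Submonoid.powers f) p.primeCompl hle
  exact isGeometricallyReduced_of_smooth_of_isLocalization k (Localization.Away f)
    (p.primeCompl.map (algebraMap A (Localization.Away f))) (Localization.AtPrime p)

/-- At a minimal prime with geometrically reduced local ring, `A` is smooth over `k`. -/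
theorem isSmoothAt_of_minimal (p : Ideal A) [p.IsPrime] (hp : p ∈ minimalPrimes A)
    [Algebra.IsGeometricallyReduced k (Localization.AtPrime p)] : Algebra.IsSmoothAt k p := by
  haveI : IsReduced (Localization.AtPrime p) := Algebra.isReduced_of_isGeometricallyReduced k
  have hbij := residue_bijective_of_minimal p hp
  let e : Localization.AtPrime p ≃ₐ[A] p.ResidueField :=
    AlgEquiv.ofBijective (IsScalarTower.toAlgHom A _ _) hbij
  haveI : IsLocalization p.primeCompl p.ResidueField :=
    IsLocalization.isLocalization_of_algEquiv p.primeCompl e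
  haveI : Algebra.IsGeometricallyReduced k p.ResidueField :=
    Algebra.IsGeometricallyReduced.of_injective
      (e.symm.toAlgHom.restrictScalars k : p.ResidueField →ₐ[k] Localization.AtPrime p)
      e.symm.injective
  haveI : Algebra.EssFiniteType A p.ResidueField :=
    Algebra.EssFiniteType.of_isLocalization _ p.primeCompl
  haveI : Algebra.EssFiniteType k p.ResidueField := Algebra.EssFiniteType.comp k A _
  haveI : Algebra.FormallySmooth k p.ResidueField :=
    Groth.Agent.Helper14.formallySmooth_of_isGeometricallyReduced_of_essFiniteType k _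
  change Algebra.FormallySmooth k (Localization.AtPrime p)
  exact Algebra.FormallySmooth.of_equiv (e.symm.restrictScalars k)

theorem exists_dense_open_smooth_iff :
    (∃ U : TopologicalSpace.Opens (PrimeSpectrum A), Dense (U : Set (PrimeSpectrum A)) ∧
        ∀ p ∈ U, Algebra.IsSmoothAt k p.asIdeal) ↔
      ∀ (p : Ideal A) [p.IsPrime], p ∈ minimalPrimes A →
        Algebra.IsGeometricallyReduced k (Localization.AtPrime p) := by
  haveI : IsNoetherianRing A := Algebra.FiniteType.isNoetherianRing k A
  haveI : Algebra.FinitePresentation k A :=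
    Algebra.FinitePresentation.of_finiteType.mp inferInstance
  constructor
  · rintro ⟨U, hUd, hU⟩ p hpp hp
    obtain ⟨g, hgp, hg⟩ := Groth.Agent.Helper14.LocalDimAlg.exists_avoid p
    have hne : ((PrimeSpectrum.basicOpen g : TopologicalSpace.Opens (PrimeSpectrum A)) :
        Set (PrimeSpectrum A)).Nonempty := ⟨⟨p, hpp⟩, hgp⟩
    obtain ⟨x, hxg, hxU⟩ := hUd.inter_open_nonempty _ (PrimeSpectrum.basicOpen g).2 hne
    obtain ⟨Q, hQ, hQx⟩ := Ideal.exists_minimalPrimes_le (bot_le : ⊥ ≤ x.asIdeal)
    have hgQ : g ∉ Q := fun h => hxg (hQx h)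
    have hQp : Q ≤ p := hg Q hQ hgQ
    have hQeq : Q = p := le_antisymm hQp (hp.2 ⟨hQ.1.1, bot_le⟩ hQp)
    have hpx : p ≤ x.asIdeal := hQeq ▸ hQx
    have hspec : (⟨p, hpp⟩ : PrimeSpectrum A) ⤳ x :=
      (PrimeSpectrum.le_iff_specializes _ _).mp hpx
    have hpU : (⟨p, hpp⟩ : PrimeSpectrum A) ∈ U := hspec.mem_open U.2 hxU
    exact isGeometricallyReduced_of_isSmoothAt k A p (hU _ hpU)
  · intro h
    refine ⟨⟨Algebra.smoothLocus k A, Algebra.isOpen_smoothLocus⟩, ?_, fun p hp => hp⟩
    intro x
    obtain ⟨Q, hQ, hQx⟩ := Ideal.exists_minimalPrimes_le (bot_le : ⊥ ≤ x.asIdeal)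
    haveI := hQ.1.1
    haveI := h Q hQ
    have hQs : (⟨Q, hQ.1.1⟩ : PrimeSpectrum A) ∈ Algebra.smoothLocus k A :=
      isSmoothAt_of_minimal k A Q hQ
    have hspec : (⟨Q, hQ.1.1⟩ : PrimeSpectrum A) ⤳ x :=
      (PrimeSpectrum.le_iff_specializes _ _).mp hQx
    exact closure_mono (Set.singleton_subset_iff.mpr hQs) (specializes_iff_mem_closure.mp hspec)

end Groth.Agent.Helper19.Jac
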