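import Mathlib
import Groth.Agent.S9432

/-!
# The Jacobson property descends along faithfully flat finitely presented ring maps
-/

set_option autoImplicit false
universe u

namespace Groth.Agent.Helper19.JacDesc

/-- Quasi-finite faithfully flat case. -/
theorem isJacobsonRing_of_quasiFinite_faithfullyFlat (A B : Type u) [CommRing A] [CommRing B]
    [Algebra A B] [Module.FaithfullyFlat A B] [Algebra.QuasiFinite A B] [IsJacobsonRing B] :
    IsJacobsonRing A := by
  rw [isJacobsonRing_iff_prime_eq]
  intro P hP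
  refine le_antisymm ?_ Ideal.le_jacobson
  intro f hf
  by_contra hfP
  -- a prime `p'` above `P`, maximal among ideals disjoint from powers of `f`
  have hdisj : Disjoint (P : Set A) (Submonoid.powers f) := by
    rw [Set.disjoint_right]
    rintro _ ⟨n, rfl⟩ hn
    exact hfP (hP.mem_of_pow_mem n hn)
  have ⟨p', hPp', hp'⟩ := zorn_le_nonempty₀ {p : Ideal A | Disjoint (p : Set A) (Submonoid.powers f)}
    (fun c hc hc' x hx ↦ by
      cases isEmpty_or_nonempty c
      · exact ⟨P, hdisj, fun J hJ ↦ isEmptyElim (⟨J, hJ⟩ : c)⟩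
      refine ⟨sSup c, Set.disjoint_left.mpr fun x hx ↦ ?_, fun _ ↦ le_sSup⟩
      have ⟨p, hp⟩ := (Submodule.mem_iSup_of_directed _ hc'.directed).mp (sSup_eq_iSup' c ▸ hx)
      exact Set.disjoint_left.mp (hc p.2) hp) P hdisj
  haveI hp'prime : p'.IsPrime :=
    Ideal.isPrime_of_maximally_disjoint _ _ hp'.1 (fun _ ↦ hp'.not_prop_of_gt)
  have hfp' : f ∉ p' := Set.disjoint_right.mp hp'.1 (Submonoid.mem_powers f)
  -- every prime strictly above `p'` contains `f`
  have hmaxl : ∀ (J : Ideal A), J.IsPrime → p' ≤ J → f ∉ J → J = p' := by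
    intro J hJ hle hfJ
    by_contra hne
    have hlt : p' < J := lt_of_le_of_ne hle (Ne.symm hne)
    have := hp'.not_prop_of_gt hlt
    apply this
    show Disjoint (J : Set A) (Submonoid.powers f)
    rw [Set.disjoint_right]
    rintro _ ⟨n, rfl⟩ hn
    exact hfJ (hJ.mem_of_pow_mem n hn)
  -- p' is not maximal
  have hnotmax : ¬ p'.IsMaximal := by
    intro hmax
    have : f ∈ p' := by
      have h1 : f ∈ sInf {J : Ideal A | P ≤ J ∧ J.IsMaximal} := hf
      exact (Ideal.mem_sInf.mp h1) ⟨hPp', hmax⟩
    exact hfp' this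
  obtain ⟨m, hm, hpm⟩ := Ideal.exists_le_maximal p' hp'prime.ne_top
  haveI : m.IsPrime := hm.isPrime
  obtain ⟨m', hm'prime, hm'over⟩ := Ideal.exists_isPrime_liesOver_of_faithfullyFlat (B := B) m
  obtain ⟨q, hqm', hqprime, hqover⟩ := Ideal.exists_ideal_le_liesOver_of_le (p := p') (q := m) m' hpm
  have hqunder : q.under A = p' := (hqover.over).symm
  have hfq : algebraMap A B f ∉ q := by
    intro h
    apply hfp'
    rw [← hqunder]
    exact h
  -- B Jacobson: a maximal ideal n ⊇ q with f ∉ n
  have hJq : q.jacobson = q := (isJacobsonRing_iff_prime_eq.mp ‹IsJacobsonRing B›) q hqprime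
  have : ∃ n : Ideal B, q ≤ n ∧ n.IsMaximal ∧ algebraMap A B f ∉ n := by
    by_contra hcon
    push Not at hcon
    apply hfq
    rw [← hJq]
    exact Ideal.mem_sInf.mpr fun n hn => hcon n hn.1 hn.2
  obtain ⟨n, hqn, hnmax, hfn⟩ := this
  haveI : n.IsPrime := hnmax.isPrime
  have hnunder : n.under A = p' := by
    apply hmaxl (n.under A) inferInstance
    · rw [← hqunder]
      exact Ideal.comap_mono hqn
    · exact hfn
  have hqn' : q = n :=
    Algebra.QuasiFinite.eq_of_le_of_under_eq (R := A) q n hqn (by rw [hqunder, hnunder])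
  -- then q is maximal, so p' = q ∩ A = m' ∩ A = m is maximal
  have hqm'eq : q = m' := by
    have hqmax : q.IsMaximal := hqn' ▸ hnmax
    exact hqmax.eq_of_le hm'prime.ne_top hqm'
  apply hnotmax
  have : p' = m := by
    rw [← hqunder, hqm'eq]
    exact (hm'over.over).symm
  rw [this]; exact hm

theorem isJacobsonRing_of_faithfullyFlat_finitePresentation (A B : Type u) [CommRing A]
    [CommRing B] [Algebra A B]
    [Module.FaithfullyFlat A B] [Algebra.FinitePresentation A B] [IsJacobsonRing B] :
    IsJacobsonRing A := by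
  obtain ⟨B', _, _, hqf, hft, hff, -, ⟨φ⟩⟩ := Groth.Agent.S9432.result A B
  letI : Algebra B B' := φ.toRingHom.toAlgebra
  haveI : IsScalarTower A B B' := IsScalarTower.of_algebraMap_eq fun a => (φ.commutes a).symm
  haveI : Algebra.FiniteType B B' := Algebra.FiniteType.of_restrictScalars_finiteType A B B'
  haveI : IsJacobsonRing B' := isJacobsonRing_of_finiteType (A := B) (B := B')
  exact isJacobsonRing_of_quasiFinite_faithfullyFlat A B'

end Groth.Agent.Helper19.JacDesc
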