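import Mathlib
import Groth.Agent.Lib.Helper19.Jac.Generic
import Groth.Agent.Lib.Helper9.SepFS
import Groth.Agent.Lib.Helper14.LocalDimSpec

/-!
# Regular local ring with separable residue field ⟺ adapted germs (helper19, S5027)
-/

namespace Groth.Agent.Helper19.Jac

open scoped TensorProduct
open IsLocalRing

universe u

/-- If `dim Ω ≤ trdeg` for a finitely generated field extension then it is geometrically reduced. -/
theorem isGeometricallyReduced_of_finrank_kaehler_le (k K : Type u) [Field k] [Field K]
    [Algebra k K] [Algebra.EssFiniteType k K]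
    (h : Module.finrank K (Ω[K⁄k]) ≤ Cardinal.toNat (Algebra.trdeg k K)) :
    Algebra.IsGeometricallyReduced k K := by
  obtain ⟨h1, h2, h3, h4⟩ := Groth.Agent.Helper9.Cartier.P.of_essFiniteType k K
  haveI := h2
  have h5 : Module.finrank K (EGA41.imperfection ℤ k K) = 0 := by omega
  have h6 : EGA41.imperfection ℤ k K = ⊥ := Submodule.finrank_eq_zero.mp h5
  apply Groth.Agent.Helper9.SepFS.isGeometricallyReduced_of_injective
  exact LinearMap.ker_eq_bot.mp h6

theorem ncard_lt_le (n r : ℕ) : {i : Fin n | (i : ℕ) < r}.ncard ≤ r := by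
  classical
  have h1 : {i : Fin n | (i : ℕ) < r}.ncard =
      (Finset.univ.filter (fun i : Fin n => (i : ℕ) < r)).card := by
    rw [← Set.ncard_coe_finset]
    congr 1
    ext i
    simp
  rw [h1]
  have h2 := Finset.card_le_card_of_injOn (s := Finset.univ.filter (fun i : Fin n => (i : ℕ) < r))
    (t := Finset.range r) (fun i => (i : ℕ))
    (fun i hi => by
      simp only [Finset.coe_filter, Finset.mem_univ, true_and, Set.mem_ofPred_eq] at hi
      simpa using hi)
    (fun a _ b _ hab => Fin.val_injective hab)
  simpa using h2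

theorem ncard_ge_le (n r : ℕ) : {i : Fin n | r ≤ (i : ℕ)}.ncard ≤ n - r := by
  classical
  have h1 : {i : Fin n | r ≤ (i : ℕ)}.ncard =
      (Finset.univ.filter (fun i : Fin n => r ≤ (i : ℕ))).card := by
    rw [← Set.ncard_coe_finset]
    congr 1
    ext i
    simp
  rw [h1]
  have h2 := Finset.card_le_card_of_injOn (s := Finset.univ.filter (fun i : Fin n => r ≤ (i : ℕ)))
    (t := Finset.Ico r n) (fun i => (i : ℕ))
    (fun i hi => by
      simp only [Finset.coe_filter, Finset.mem_univ, true_and, Set.mem_ofPred_eq] at hi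
      simp only [Finset.coe_Ico, Set.mem_Ico]
      exact ⟨hi, i.2⟩)
    (fun a _ b _ hab => Fin.val_injective hab)
  simpa using h2

section Local

variable {k R : Type u} [Field k] [CommRing R] [IsLocalRing R] [IsNoetherianRing R] [Algebra k R]

theorem exists_germs (r t : ℕ) (h1 : (maximalIdeal R).spanFinrank = r)
    [Module.Finite (ResidueField R) (Ω[ResidueField R⁄k])]
    (h2 : Module.finrank (ResidueField R) (Ω[ResidueField R⁄k]) = t) :
    ∃ g : Fin (r + t) → R,
      Ideal.span (g '' {i : Fin (r + t) | (i : ℕ) < r}) = maximalIdeal R ∧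
        Submodule.span (ResidueField R) ((fun i : Fin (r + t) =>
          KaehlerDifferential.D k (ResidueField R) (residue R (g i))) ''
            {i : Fin (r + t) | r ≤ (i : ℕ)}) = ⊤ := by
  classical
  obtain ⟨s, hs1, hs2⟩ := Submodule.FG.exists_span_finset_card_eq_spanFinrank
    (IsNoetherian.noetherian (maximalIdeal R))
  rw [h1] at hs1
  obtain ⟨e, -⟩ : ∃ e : s ≃ Fin r, True := ⟨Finset.equivFinOfCardEq hs1, trivial⟩
  obtain ⟨f, hf, hfspan, -⟩ := Submodule.exists_fun_fin_finrank_span_eq (ResidueField R)
    (Set.range (KaehlerDifferential.D k (ResidueField R)))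
  have hcard : Module.finrank (ResidueField R) (Submodule.span (ResidueField R)
      (Set.range (KaehlerDifferential.D k (ResidueField R)))) = t := by
    rw [KaehlerDifferential.span_range_derivation, finrank_top, h2]
  have hlift : ∀ j : Fin t, ∃ y : R,
      KaehlerDifferential.D k (ResidueField R) (residue R y) = f (Fin.cast hcard.symm j) := by
    intro j
    obtain ⟨z, hz⟩ := hf (Fin.cast hcard.symm j)
    obtain ⟨y, rfl⟩ := residue_surjective z
    exact ⟨y, hz⟩
  choose y hy using hlift
  refine ⟨fun i => if h : (i : ℕ) < r then ((e.symm ⟨i, h⟩ : s) : R) else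
    y ⟨i - r, by have := i.2; omega⟩, ?_, ?_⟩
  · have himg : (fun i : Fin (r + t) => if h : (i : ℕ) < r then ((e.symm ⟨i, h⟩ : s) : R) else
        y ⟨i - r, by have := i.2; omega⟩) '' {i : Fin (r + t) | (i : ℕ) < r} = (s : Set R) := by
      ext z
      constructor
      · rintro ⟨i, hi, rfl⟩
        simp only [Set.mem_ofPred_eq] at hi
        beta_reduce
        rw [dif_pos hi]
        exact (e.symm _).2
      · intro hz
        refine ⟨⟨(e ⟨z, hz⟩ : ℕ), by have := (e ⟨z, hz⟩).2; omega⟩, (e ⟨z, hz⟩).2, ?_⟩
        have hlt : ((e ⟨z, hz⟩ : Fin r) : ℕ) < r := (e ⟨z, hz⟩).2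
        beta_reduce
        rw [dif_pos hlt]
        simp
    rw [himg]
    exact hs2
  · have himg : (fun i : Fin (r + t) => KaehlerDifferential.D k (ResidueField R)
        (residue R (if h : (i : ℕ) < r then ((e.symm ⟨i, h⟩ : s) : R) else
          y ⟨i - r, by have := i.2; omega⟩))) '' {i : Fin (r + t) | r ≤ (i : ℕ)} =
        Set.range f := by
      ext z
      constructor
      · rintro ⟨i, hi, rfl⟩
        simp only [Set.mem_ofPred_eq] at hi
        beta_reduce
        rw [dif_neg (by omega), hy]
        exact ⟨_, rfl⟩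
      · rintro ⟨j, rfl⟩
        refine ⟨⟨r + (j : ℕ), by have := j.2; omega⟩, by simp, ?_⟩
        beta_reduce
        rw [dif_neg (by simp), hy]
        congr 1
        ext
        simp
    rw [himg, hfspan, KaehlerDifferential.span_range_derivation]

theorem of_germs (n r : ℕ) (g : Fin n → R)
    (hg1 : Ideal.span (g '' {i : Fin n | (i : ℕ) < r}) = maximalIdeal R)
    (hg2 : Submodule.span (ResidueField R) ((fun i : Fin n =>
          KaehlerDifferential.D k (ResidueField R) (residue R (g i))) ''
            {i : Fin n | r ≤ (i : ℕ)}) = ⊤) :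
    (maximalIdeal R).spanFinrank ≤ r ∧
      Module.finrank (ResidueField R) (Ω[ResidueField R⁄k]) ≤ n - r := by
  classical
  constructor
  · rw [← hg1]
    refine (Submodule.spanFinrank_span_le_ncard_of_finite (Set.toFinite _)).trans ?_
    exact (Set.ncard_image_le (Set.toFinite _)).trans (ncard_lt_le n r)
  · rw [← finrank_top (ResidueField R) (Ω[ResidueField R⁄k]), ← hg2]
    obtain ⟨T, hT⟩ : ∃ T : Set (Ω[ResidueField R⁄k]), T = (fun i : Fin n =>
          KaehlerDifferential.D k (ResidueField R) (residue R (g i))) ''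
            {i : Fin n | r ≤ (i : ℕ)} := ⟨_, rfl⟩
    rw [← hT]
    have hfin : T.Finite := by rw [hT]; exact Set.toFinite _
    haveI : Fintype T := hfin.fintype
    refine (finrank_span_le_card T).trans ?_
    rw [← Set.ncard_eq_toFinset_card', hT]
    exact (Set.ncard_image_le (Set.toFinite _)).trans (ncard_ge_le n r)

end Local

theorem germs_iff (k A : Type u) [Field k] [CommRing A] [Algebra k A] [Algebra.FiniteType k A]
    (n r : ℕ) (p : Ideal A) [p.IsPrime]
    (hn : FlatMor.localDim (PrimeSpectrum A) ⟨p, inferInstance⟩ = (n : WithBot ℕ∞))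
    (hr : ringKrullDim (Localization.AtPrime p) = (r : WithBot ℕ∞)) :
    (IsRegularLocalRing (Localization.AtPrime p) ∧
      Algebra.IsGeometricallyReduced k p.ResidueField) ↔
      ∃ g : Fin n → Localization.AtPrime p,
        Ideal.span (g '' {i : Fin n | (i : ℕ) < r}) =
            IsLocalRing.maximalIdeal (Localization.AtPrime p) ∧
          Submodule.span p.ResidueField ((fun i : Fin n =>
            KaehlerDifferential.D k p.ResidueField
              (IsLocalRing.residue (Localization.AtPrime p) (g i))) ''
              {i : Fin n | r ≤ (i : ℕ)}) = ⊤ := by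
  haveI : IsNoetherianRing A := Algebra.FiniteType.isNoetherianRing k A
  haveI : IsDomain (A ⧸ p) := Ideal.Quotient.isDomain p
  have hfin : Algebra.trdeg k (A ⧸ p) < Cardinal.aleph0 := trdeg_lt_aleph0_of_finiteType
  obtain ⟨t, ht⟩ : ∃ t : ℕ, Algebra.trdeg k (A ⧸ p) = t := Cardinal.lt_aleph0.mp hfin
  have hloc := Groth.Agent.Helper14.LocalDimSpec.localDim_eq k A p t ht
  have hht : ringKrullDim (Localization.AtPrime p) = ((p.height : ℕ∞) : WithBot ℕ∞) :=
    IsLocalization.AtPrime.ringKrullDim_eq_height p (Localization.AtPrime p)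
  rw [hn, ← hht, hr] at hloc
  have hnrt : n = r + t := by exact_mod_cast hloc
  have htK : Cardinal.toNat (Algebra.trdeg k p.ResidueField) = t := by
    rw [Groth.Agent.Helper14.LocalDimSpec.trdeg_residueField, ht]
    simp
  haveI : Algebra.EssFiniteType A p.ResidueField :=
    Algebra.EssFiniteType.comp A (Localization.AtPrime p) _
  haveI : Algebra.EssFiniteType k p.ResidueField := Algebra.EssFiniteType.comp k A _
  constructor
  · rintro ⟨hreg, hgr⟩
    haveI := hreg
    haveI := hgr
    have h1 : (maximalIdeal (Localization.AtPrime p)).spanFinrank = r := by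
      have := hreg.spanFinrank_maximalIdeal
      rw [hr] at this
      exact_mod_cast this
    have h2 : Module.finrank p.ResidueField (Ω[p.ResidueField⁄k]) = t := by
      rw [finrank_kaehler_eq_trdeg, htK]
    subst hnrt
    exact exists_germs r t h1 h2
  · rintro ⟨g, hg1, hg2⟩
    obtain ⟨h1, h2⟩ := of_germs n r g hg1 hg2
    constructor
    · apply IsRegularLocalRing.of_spanFinrank_maximalIdeal_le
      rw [hr]
      exact_mod_cast h1
    · apply isGeometricallyReduced_of_finrank_kaehler_le
      rw [htK]
      have h2' : Module.finrank p.ResidueField (Ω[p.ResidueField⁄k]) ≤ n - r := h2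
      omega

end Groth.Agent.Helper19.Jac
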