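import Mathlib
import Groth.Agent.Lib.Helper19.Jac.CotSeq
import Groth.Agent.Lib.Helper19.Jac.EtalePoly
import Groth.Agent.Lib.Helper19.Jac.Germs
import Groth.Agent.Lib.Helper14.RegSmooth

/-!
# Étale at a point over a polynomial ring ⟺ parameters and residue differentials
(helper19, S5026)
-/

namespace Groth.Agent.Helper19.Jac

open scoped TensorProduct
open IsLocalRing

universe u

section Aux

variable {R : Type u} [CommRing R] [IsLocalRing R]

theorem span_subtype_iff (s : Set (maximalIdeal R)) :
    Submodule.span R s = ⊤ ↔ Ideal.span (Subtype.val '' s) = maximalIdeal R := by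
  have h1 : Submodule.map (maximalIdeal R).subtype (Submodule.span R s) =
      Ideal.span (Subtype.val '' s) := by
    rw [Submodule.map_span]
    rfl
  have h2 : Submodule.map (maximalIdeal R).subtype ⊤ = maximalIdeal R := by
    rw [Submodule.map_top, Submodule.range_subtype]
  constructor
  · intro h
    rw [← h1, h, h2]
  · intro h
    apply Submodule.map_injective_of_injective (Submodule.injective_subtype (maximalIdeal R))
    rw [h1, h, h2]

end Aux

section Local

variable (k : Type u) [Field k] (n : ℕ) (R : Type u) [CommRing R] [IsLocalRing R]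
  [IsNoetherianRing R] [Algebra k R] [Algebra (MvPolynomial (Fin n) k) R]
  [IsScalarTower k (MvPolynomial (Fin n) k) R]

/-- the images of the variables -/
noncomputable def xx (i : Fin n) : R := algebraMap (MvPolynomial (Fin n) k) R (MvPolynomial.X i)

/-- the classes `1 ⊗ d x_i` -/
noncomputable def vv (i : Fin n) : ResidueField R ⊗[R] Ω[R⁄k] :=
  1 ⊗ₜ KaehlerDifferential.D k R (xx k n R i)

theorem mapBaseChange_vv (i : Fin n) :
    KaehlerDifferential.mapBaseChange k R (ResidueField R) (vv k n R i) =
      KaehlerDifferential.D k (ResidueField R) (residue R (xx k n R i)) :=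
  mapBaseChange_one_tmul_D k R _

theorem vv_eq_cotMap (i : Fin n) (hi : xx k n R i ∈ maximalIdeal R) :
    vv k n R i = cotMap k R ((maximalIdeal R).toCotangent ⟨xx k n R i, hi⟩) := by
  rw [cotMap_toCotangent, vv]

theorem mapBaseChange_vv_eq_zero (i : Fin n) (hi : xx k n R i ∈ maximalIdeal R) :
    KaehlerDifferential.mapBaseChange k R (ResidueField R) (vv k n R i) = 0 := by
  rw [vv_eq_cotMap k n R i hi]
  exact (exact_cotMap_mapBaseChange k R _).mpr ⟨_, rfl⟩

/-- the set of the first `r` images of the variables, as elements of the maximal ideal -/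
def firstSet (r : ℕ) (hx : ∀ i : Fin n, (i : ℕ) < r → xx k n R i ∈ maximalIdeal R) :
    Set (maximalIdeal R) :=
  Set.range (fun i : {i : Fin n // (i : ℕ) < r} => (⟨xx k n R i.1, hx i.1 i.2⟩ : maximalIdeal R))

theorem val_image_firstSet (r : ℕ)
    (hx : ∀ i : Fin n, (i : ℕ) < r → xx k n R i ∈ maximalIdeal R) :
    Subtype.val '' (firstSet k n R r hx) = (xx k n R) '' {i : Fin n | (i : ℕ) < r} := by
  ext z
  constructor
  · rintro ⟨_, ⟨i, rfl⟩, rfl⟩
    exact ⟨i.1, i.2, rfl⟩
  · rintro ⟨i, hi, rfl⟩
    exact ⟨⟨xx k n R i, hx i hi⟩, ⟨⟨i, hi⟩, rfl⟩, rfl⟩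

/-- Direction `⟸`, step 1: the `1 ⊗ dx_i` span `κ ⊗ Ω`. -/
theorem span_vv_eq_top (r : ℕ)
    (hx : ∀ i : Fin n, (i : ℕ) < r → xx k n R i ∈ maximalIdeal R)
    (ha : Ideal.span ((xx k n R) '' {i : Fin n | (i : ℕ) < r}) = maximalIdeal R)
    (hb : Submodule.span (ResidueField R) ((fun i : Fin n =>
      KaehlerDifferential.D k (ResidueField R) (residue R (xx k n R i))) ''
        {i : Fin n | r ≤ (i : ℕ)}) = ⊤) :
    Submodule.span (ResidueField R) (Set.range (vv k n R)) = ⊤ := by
  rw [_root_.eq_top_iff]
  intro y _
  -- lift `g y`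
  have hgy : KaehlerDifferential.mapBaseChange k R (ResidueField R) y ∈
      Submodule.map (KaehlerDifferential.mapBaseChange k R (ResidueField R))
        (Submodule.span (ResidueField R) (Set.range (vv k n R))) := by
    rw [Submodule.map_span]
    have : KaehlerDifferential.mapBaseChange k R (ResidueField R) y ∈
        Submodule.span (ResidueField R) ((fun i : Fin n =>
          KaehlerDifferential.D k (ResidueField R) (residue R (xx k n R i))) ''
            {i : Fin n | r ≤ (i : ℕ)}) := by rw [hb]; trivial
    refine Submodule.span_mono ?_ this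
    rintro _ ⟨i, -, rfl⟩
    exact ⟨vv k n R i, ⟨i, rfl⟩, mapBaseChange_vv k n R i⟩
  obtain ⟨w, hw, hwy⟩ := hgy
  have hker : KaehlerDifferential.mapBaseChange k R (ResidueField R) (y - w) = 0 := by
    rw [map_sub, hwy, sub_self]
  obtain ⟨z, hz⟩ := (exact_cotMap_mapBaseChange k R _).mp hker
  have hztop : z ∈ Submodule.span (ResidueField R)
      ((maximalIdeal R).toCotangent '' (firstSet k n R r hx)) := by
    rw [CotangentSpace.span_image_eq_top_iff.mpr
      ((span_subtype_iff _).mpr (by rw [val_image_firstSet]; exact ha))]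
    trivial
  have hcz : cotMap k R z ∈ Submodule.span (ResidueField R) (Set.range (vv k n R)) := by
    have : cotMap k R z ∈ Submodule.map (cotMap k R) (Submodule.span (ResidueField R)
        ((maximalIdeal R).toCotangent '' (firstSet k n R r hx))) := ⟨z, hztop, rfl⟩
    rw [Submodule.map_span] at this
    refine Submodule.span_mono ?_ this
    rintro _ ⟨_, ⟨_, ⟨i, rfl⟩, rfl⟩, rfl⟩
    exact ⟨i.1, vv_eq_cotMap k n R i.1 (hx i.1 i.2)⟩
  have : y = (y - w) + w := by abel
  rw [this, ← hz]
  exact Submodule.add_mem _ hcz hw

theorem range_vv_subset :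
    Set.range (vv k n R) ⊆ Submodule.map (TensorProduct.mk R (ResidueField R) (Ω[R⁄k]) 1)
      (LinearMap.range (KaehlerDifferential.mapBaseChange k (MvPolynomial (Fin n) k) R)) := by
  rintro _ ⟨i, rfl⟩
  refine ⟨KaehlerDifferential.D k R (xx k n R i), ⟨1 ⊗ₜ KaehlerDifferential.D k _ (MvPolynomial.X i),
    ?_⟩, rfl⟩
  rw [KaehlerDifferential.mapBaseChange_tmul, one_smul, KaehlerDifferential.map_D]
  rfl

/-- Direction `⟸`. -/
theorem formallyEtale_of_span (r t : ℕ) (hn : n = r + t)
    [Algebra.FormallySmooth k R] [Algebra.FormallySmooth k (ResidueField R)]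
    [Module.Finite R (Ω[R⁄k])] [Module.Finite (ResidueField R) (Ω[ResidueField R⁄k])]
    (hr : Module.finrank (ResidueField R) (CotangentSpace R) = r)
    (ht : Module.finrank (ResidueField R) (Ω[ResidueField R⁄k]) = t)
    (hx : ∀ i : Fin n, (i : ℕ) < r → xx k n R i ∈ maximalIdeal R)
    (ha : Ideal.span ((xx k n R) '' {i : Fin n | (i : ℕ) < r}) = maximalIdeal R)
    (hb : Submodule.span (ResidueField R) ((fun i : Fin n =>
      KaehlerDifferential.D k (ResidueField R) (residue R (xx k n R i))) ''
        {i : Fin n | r ≤ (i : ℕ)}) = ⊤) :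
    Algebra.FormallyEtale (MvPolynomial (Fin n) k) R := by
  have h1 := span_vv_eq_top k n R r hx ha hb
  -- surjectivity by Nakayama
  have hsurj : Function.Surjective
      (KaehlerDifferential.mapBaseChange k (MvPolynomial (Fin n) k) R) := by
    rw [← LinearMap.range_eq_top, ← IsLocalRing.map_tensorProduct_mk_eq_top, _root_.eq_top_iff]
    have h2 : (Submodule.span (ResidueField R) (Set.range (vv k n R))).restrictScalars R =
        Submodule.span R (Set.range (vv k n R)) :=
      Submodule.restrictScalars_span R (ResidueField R) (residue_surjective (R := R)) _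
    rw [h1] at h2
    have h3 : Submodule.span R (Set.range (vv k n R)) = ⊤ := by
      rw [← h2]; rfl
    rw [← h3]
    exact Submodule.span_le.mpr (range_vv_subset k n R)
  -- ranks
  haveI : Module.Free R (Ω[R⁄k]) := Module.free_of_flat_of_isLocalRing
  have hrank : Module.finrank R (Ω[R⁄k]) = n := by
    rw [← Module.finrank_baseChange (R := ResidueField R) (S := R),
      finrank_tensor_kaehler_eq_add k R, hr, ht, hn]
  have hbij : Function.Bijective
      (KaehlerDifferential.mapBaseChange k (MvPolynomial (Fin n) k) R) := by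
    apply OrzechProperty.bijective_of_surjective_of_finrank_le _ hsurj
    rw [Module.finrank_baseChange,
      Module.finrank_eq_card_basis (KaehlerDifferential.mvPolynomialBasis k (Fin n)),
      Fintype.card_fin, hrank]
  exact formallyEtale_of_mapBaseChange_bijective k (MvPolynomial (Fin n) k) R hbij

/-- Direction `⟹`. -/
theorem span_of_formallyEtale (r : ℕ) (hrn : r ≤ n)
    [Algebra.FormallyEtale (MvPolynomial (Fin n) k) R]
    (hr : Module.finrank (ResidueField R) (CotangentSpace R) = r)
    (hx : ∀ i : Fin n, (i : ℕ) < r → xx k n R i ∈ maximalIdeal R) :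
    Ideal.span ((xx k n R) '' {i : Fin n | (i : ℕ) < r}) = maximalIdeal R ∧
    Submodule.span (ResidueField R) ((fun i : Fin n =>
      KaehlerDifferential.D k (ResidueField R) (residue R (xx k n R i))) ''
        {i : Fin n | r ≤ (i : ℕ)}) = ⊤ := by
  classical
  let e := KaehlerDifferential.tensorKaehlerEquivOfFormallyEtale k (MvPolynomial (Fin n) k) R
  let bR : Module.Basis (Fin n) R (Ω[R⁄k]) :=
    ((KaehlerDifferential.mvPolynomialBasis k (Fin n)).baseChange R).map e
  have hbR : ∀ i, bR i = KaehlerDifferential.D k R (xx k n R i) := by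
    intro i
    simp only [bR, Module.Basis.map_apply, Module.Basis.baseChange_apply,
      KaehlerDifferential.mvPolynomialBasis_apply, e,
      KaehlerDifferential.tensorKaehlerEquivOfFormallyEtale_apply,
      KaehlerDifferential.mapBaseChange_tmul, one_smul, KaehlerDifferential.map_D]
    rfl
  let bV : Module.Basis (Fin n) (ResidueField R) (ResidueField R ⊗[R] Ω[R⁄k]) :=
    bR.baseChange (ResidueField R)
  have hbV : ∀ i, bV i = vv k n R i := by
    intro i
    simp only [bV, Module.Basis.baseChange_apply, hbR]
    rfl
  have hvv : (bV : Fin n → _) = vv k n R := funext hbV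
  have hli : LinearIndependent (ResidueField R) (vv k n R) := hvv ▸ bV.linearIndependent
  have hsp : Submodule.span (ResidueField R) (Set.range (vv k n R)) = ⊤ := hvv ▸ bV.span_eq
  constructor
  · -- the first `r` classes are linearly independent in the cotangent space
    have hli' : LinearIndependent (ResidueField R)
        (fun i : {i : Fin n // (i : ℕ) < r} =>
          (maximalIdeal R).toCotangent (⟨xx k n R i.1, hx i.1 i.2⟩ : maximalIdeal R)) := by
      apply LinearIndependent.of_comp (cotMap k R)
      have : (cotMap k R) ∘ (fun i : {i : Fin n // (i : ℕ) < r} =>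
          (maximalIdeal R).toCotangent (⟨xx k n R i.1, hx i.1 i.2⟩ : maximalIdeal R)) =
          (vv k n R) ∘ Subtype.val := by
        funext i
        exact (vv_eq_cotMap k n R i.1 (hx i.1 i.2)).symm
      rw [this]
      exact hli.comp _ Subtype.val_injective
    have hcard : Fintype.card {i : Fin n // (i : ℕ) < r} =
        Module.finrank (ResidueField R) (CotangentSpace R) := by
      rw [hr, ← Fintype.card_congr (Fin.castLEquiv hrn), Fintype.card_fin]
    have hspan := hli'.span_eq_top_of_card_eq_finrank' hcard
    have hrange : Set.range (fun i : {i : Fin n // (i : ℕ) < r} =>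
          (maximalIdeal R).toCotangent (⟨xx k n R i.1, hx i.1 i.2⟩ : maximalIdeal R)) =
        (maximalIdeal R).toCotangent '' (firstSet k n R r hx) := by
      rw [firstSet, ← Set.range_comp]
      rfl
    rw [hrange, CotangentSpace.span_image_eq_top_iff, span_subtype_iff,
      val_image_firstSet] at hspan
    exact hspan
  · have hsurj : Function.Surjective (KaehlerDifferential.mapBaseChange k R (ResidueField R)) :=
      KaehlerDifferential.mapBaseChange_surjective k R (ResidueField R)
        (residue_surjective (R := R))
    have h1 : Submodule.map (KaehlerDifferential.mapBaseChange k R (ResidueField R))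
        (Submodule.span (ResidueField R) (Set.range (vv k n R))) = ⊤ := by
      rw [hsp, Submodule.map_top, LinearMap.range_eq_top.mpr hsurj]
    rw [Submodule.map_span] at h1
    rw [_root_.eq_top_iff, ← h1]
    apply Submodule.span_le.mpr
    rintro _ ⟨_, ⟨i, rfl⟩, rfl⟩
    by_cases hi : (i : ℕ) < r
    · rw [mapBaseChange_vv_eq_zero k n R i (hx i hi)]
      exact Submodule.zero_mem _
    · rw [mapBaseChange_vv]
      exact Submodule.subset_span ⟨i, not_lt.mp hi, rfl⟩

end Local

section Global

theorem isEtaleAt_iff (k A : Type u) [Field k] [CommRing A] [Algebra k A] [Algebra.FiniteType k A]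
    (n r : ℕ) [Algebra (MvPolynomial (Fin n) k) A]
    [IsScalarTower k (MvPolynomial (Fin n) k) A] (p : Ideal A) [p.IsPrime]
    (hn : FlatMor.localDim (PrimeSpectrum A) ⟨p, inferInstance⟩ = (n : WithBot ℕ∞))
    (hr : ringKrullDim (Localization.AtPrime p) = (r : WithBot ℕ∞))
    (hg : ∀ i : Fin n, (i : ℕ) < r →
      algebraMap (MvPolynomial (Fin n) k) A (MvPolynomial.X i) ∈ p) :
    Algebra.IsEtaleAt (MvPolynomial (Fin n) k) p ↔
      Ideal.span ((fun i : Fin n =>
          algebraMap A (Localization.AtPrime p)
            (algebraMap (MvPolynomial (Fin n) k) A (MvPolynomial.X i))) ''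
            {i : Fin n | (i : ℕ) < r}) = IsLocalRing.maximalIdeal (Localization.AtPrime p) ∧
        Submodule.span p.ResidueField ((fun i : Fin n =>
          KaehlerDifferential.D k p.ResidueField
            (IsLocalRing.residue (Localization.AtPrime p)
              (algebraMap A (Localization.AtPrime p)
                (algebraMap (MvPolynomial (Fin n) k) A (MvPolynomial.X i))))) ''
            {i : Fin n | r ≤ (i : ℕ)}) = ⊤ := by
  haveI : IsNoetherianRing A := Algebra.FiniteType.isNoetherianRing k A
  haveI : IsDomain (A ⧸ p) := Ideal.Quotient.isDomain p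
  haveI : IsScalarTower k (MvPolynomial (Fin n) k) (Localization.AtPrime p) :=
    IsScalarTower.of_algebraMap_eq fun c => by
      rw [IsScalarTower.algebraMap_apply k A (Localization.AtPrime p),
        IsScalarTower.algebraMap_apply k (MvPolynomial (Fin n) k) A,
        ← IsScalarTower.algebraMap_apply (MvPolynomial (Fin n) k) A (Localization.AtPrime p)]
  have hfin : Algebra.trdeg k (A ⧸ p) < Cardinal.aleph0 := trdeg_lt_aleph0_of_finiteType
  obtain ⟨t, ht⟩ : ∃ t : ℕ, Algebra.trdeg k (A ⧸ p) = t := Cardinal.lt_aleph0.mp hfin
  have hloc := Groth.Agent.Helper14.LocalDimSpec.localDim_eq k A p t ht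
  have hht : ringKrullDim (Localization.AtPrime p) = ((p.height : ℕ∞) : WithBot ℕ∞) :=
    IsLocalization.AtPrime.ringKrullDim_eq_height p (Localization.AtPrime p)
  have hn' := hn
  rw [hloc, ← hht, hr] at hn'
  have hnrt : n = r + t := by exact_mod_cast hn'.symm
  have htK : Cardinal.toNat (Algebra.trdeg k p.ResidueField) = t := by
    rw [Groth.Agent.Helper14.LocalDimSpec.trdeg_residueField, ht]
    simp
  haveI : Algebra.EssFiniteType k (Localization.AtPrime p) :=
    Algebra.EssFiniteType.comp k A (Localization.AtPrime p)
  haveI : Algebra.EssFiniteType k p.ResidueField :=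
    Algebra.EssFiniteType.comp k (Localization.AtPrime p) _
  have hxx : xx k n (Localization.AtPrime p) = fun i : Fin n =>
      algebraMap A (Localization.AtPrime p)
        (algebraMap (MvPolynomial (Fin n) k) A (MvPolynomial.X i)) := by
    funext i
    exact IsScalarTower.algebraMap_apply (MvPolynomial (Fin n) k) A (Localization.AtPrime p) _
  have hx : ∀ i : Fin n, (i : ℕ) < r →
      xx k n (Localization.AtPrime p) i ∈ maximalIdeal (Localization.AtPrime p) := by
    intro i hi
    rw [hxx]
    exact (IsLocalization.AtPrime.to_map_mem_maximal_iff (Localization.AtPrime p) p _).mpr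
      (hg i hi)
  rw [← hxx]
  constructor
  · intro het
    haveI : Algebra.FormallyEtale (MvPolynomial (Fin n) k) (Localization.AtPrime p) := het
    haveI : Algebra.FormallySmooth k (Localization.AtPrime p) :=
      .comp k (MvPolynomial (Fin n) k) _
    haveI : Algebra.IsSmoothAt k p := ‹Algebra.FormallySmooth k (Localization.AtPrime p)›
    haveI hreg := Groth.Agent.Helper14.RegSmooth.isRegularLocalRing_of_isSmoothAt k A p
    have hcot : Module.finrank (ResidueField (Localization.AtPrime p))
        (CotangentSpace (Localization.AtPrime p)) = r := by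
      have := (IsRegularLocalRing.iff_finrank_cotangentSpace
        (R := Localization.AtPrime p)).mp hreg
      rw [hr] at this
      exact_mod_cast this
    exact span_of_formallyEtale k n (Localization.AtPrime p) r (by omega) hcot hx
  · rintro ⟨ha, hb⟩
    obtain ⟨hreg, hgr⟩ := (germs_iff k A n r p hn hr).mpr
      ⟨xx k n (Localization.AtPrime p), ha, hb⟩
    haveI := hreg
    haveI := hgr
    haveI : Algebra.FormallySmooth k (Localization.AtPrime p) :=
      Groth.Agent.Helper14.RegSmooth.isSmoothAt_of_regular k A p
    haveI : Algebra.FormallySmooth k (ResidueField (Localization.AtPrime p)) :=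
      Groth.Agent.Helper14.formallySmooth_of_isGeometricallyReduced_of_essFiniteType k
        p.ResidueField
    have hcot : Module.finrank (ResidueField (Localization.AtPrime p))
        (CotangentSpace (Localization.AtPrime p)) = r := by
      have := (IsRegularLocalRing.iff_finrank_cotangentSpace
        (R := Localization.AtPrime p)).mp hreg
      rw [hr] at this
      exact_mod_cast this
    have htΩ : Module.finrank (ResidueField (Localization.AtPrime p))
        (Ω[ResidueField (Localization.AtPrime p)⁄k]) = t := by
      have := finrank_kaehler_eq_trdeg k p.ResidueField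
      rw [htK] at this
      exact this
    change Algebra.FormallyEtale (MvPolynomial (Fin n) k) (Localization.AtPrime p)
    exact formallyEtale_of_span k n (Localization.AtPrime p) r t hnrt hcot htΩ hx ha hb

theorem isEtaleAt_iff_span_range (k A : Type u) [Field k] [CommRing A] [Algebra k A]
    [Algebra.FiniteType k A] (n : ℕ) [Algebra (MvPolynomial (Fin n) k) A]
    [IsScalarTower k (MvPolynomial (Fin n) k) A] (p : Ideal A) [p.IsPrime]
    (hn : FlatMor.localDim (PrimeSpectrum A) ⟨p, inferInstance⟩ = (n : WithBot ℕ∞))
    [Module.Finite k p.ResidueField] [Algebra.IsSeparable k p.ResidueField]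
    (hg : ∀ i : Fin n, algebraMap (MvPolynomial (Fin n) k) A (MvPolynomial.X i) ∈ p) :
    Algebra.IsEtaleAt (MvPolynomial (Fin n) k) p ↔
      Ideal.span (Set.range fun i : Fin n =>
        algebraMap A (Localization.AtPrime p)
          (algebraMap (MvPolynomial (Fin n) k) A (MvPolynomial.X i))) =
        IsLocalRing.maximalIdeal (Localization.AtPrime p) := by
  haveI : IsNoetherianRing A := Algebra.FiniteType.isNoetherianRing k A
  have htr : Algebra.trdeg k (A ⧸ p) = ((0 : ℕ) : Cardinal) := by
    rw [← Groth.Agent.Helper14.LocalDimSpec.trdeg_residueField]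
    haveI : Algebra.IsAlgebraic k p.ResidueField := Algebra.IsAlgebraic.of_finite k _
    simpa using (trdeg_eq_zero : Algebra.trdeg k p.ResidueField = 0)
  have hloc := Groth.Agent.Helper14.LocalDimSpec.localDim_eq k A p 0 htr
  have hht : ringKrullDim (Localization.AtPrime p) = ((p.height : ℕ∞) : WithBot ℕ∞) :=
    IsLocalization.AtPrime.ringKrullDim_eq_height p (Localization.AtPrime p)
  have hr : ringKrullDim (Localization.AtPrime p) = (n : WithBot ℕ∞) := by
    rw [hn, ← hht] at hloc
    rw [hloc]
    simp
  rw [isEtaleAt_iff k A n n p hn hr (fun i _ => hg i)]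
  have h1 : {i : Fin n | (i : ℕ) < n} = Set.univ := by
    ext i
    simp
  have h2 : {i : Fin n | n ≤ (i : ℕ)} = ∅ := by
    ext i
    simp
  rw [h1, h2, Set.image_univ, Set.image_empty, Submodule.span_empty]
  haveI : Algebra.FormallyUnramified k p.ResidueField :=
    Algebra.FormallyUnramified.of_isSeparable k p.ResidueField
  have h3 : (⊥ : Submodule p.ResidueField (Ω[p.ResidueField⁄k])) = ⊤ := Subsingleton.elim _ _
  simp [h3]

end Global

end Groth.Agent.Helper19.Jac
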